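import Cfsg.Agent.Lib.SUSixUFour.Data
import Cfsg.Agent.Lib.StabCert.Quad

/-!
# Checks of the certificate for 3.U4(3) in SU(6,2)
-/

set_option autoImplicit false
set_option maxRecDepth 100000
set_option Elab.async false

namespace Cfsg.Agent.SUSixUFour.Cert

open StabCert

/-- The model of GF(4). -/
abbrev M4 : Type := Quad 2 1 1

/-- The model of GF(9). -/
abbrev M9 : Type := Quad 3 2 0

/-- A six-dimensional generator. -/
def m6 (k : ℕ) : Matrix (Fin 6) (Fin 6) M4 := qmat 2 1 1 6 (g6.getD k [])

/-- A four-dimensional generator. -/
def m4 (k : ℕ) : Matrix (Fin 4) (Fin 4) M9 := qmat 3 2 0 4 (g4.getD k [])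

/-- An isotropic point. -/
def rightL (j : ℕ) : List ℕ := (rightsData.getD (j / 32) []).getD (j % 32) []

/-- A vector. -/
def vecL (j : ℕ) : List ℕ := (vecsData.getD (j / 32) []).getD (j % 32) []

/-- The code of a list. -/
def code (r : ℕ) : List ℕ → ℕ
  | [] => 0
  | x :: l => x + r * code r l

/-- The base matrix. -/
def bmat : Matrix (Fin 4) (Fin 4) M9 :=
  Matrix.of fun i j => qvec 3 2 0 4 (rightL (br.getD j.val 0)) i

theorem g6_ok : ∀ k : Fin 14, suOK (m6 k.val) = true := by
  intro k
  fin_cases k <;> decide +kernel

theorem g4_ok : ∀ k : Fin 14, suOK (m4 k.val) = true := by decide +kernel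

theorem right_ok : ∀ j : Fin 280, lineOK (qvec 3 2 0 4 (rightL j.val)) = true ∧
    (rightL j.val).length = 4 ∧ ∀ x ∈ rightL j.val, x < 9 := by decide +kernel

theorem right_distinct :
    distinctFrom ((List.range 280).map fun j => code 9 (rightL j)) 0 = true := by decide +kernel

theorem vec_ok : ((List.range 2016).all fun j =>
    (vecL j).length == 6 && (vecL j).all fun x => Nat.blt x 4) = true := by decide +kernel

theorem vec_distinct :
    distinctFrom ((List.range 2016).map fun j => code 4 (vecL j)) 0 = true := by decide +kernel

/-- One table. -/
def tabOKk (k : ℕ) : Bool :=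
  ((List.range 280).all fun j =>
    Nat.blt (look 12 (tab.getD k 0) j) 280 &&
      propOK 3 2 0 4 (g4.getD k []) (rightL j) (rightL (look 12 (tab.getD k 0) j))) &&
  ((List.range 2016).all fun j =>
    Nat.ble 280 (look 12 (tab.getD k 0) (280 + j)) &&
      Nat.blt (look 12 (tab.getD k 0) (280 + j)) 2296 &&
      ((g6.getD k []).map fun r => dotC 2 1 1 r (vecL j)) ==
        vecL (look 12 (tab.getD k 0) (280 + j) - 280))

theorem tab_ok : ∀ k : Fin 14, tabOKk k.val = true := by
  intro k
  fin_cases k <;> decide +kernel

theorem base_ok : genPosOK bmat (qmat 3 2 0 4 winv)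
    (qvec 3 2 0 4 (rightL (br.getD 4 0))) = true ∧ br.length = 5 ∧ ∀ x ∈ br, x < 280 := by
  decide +kernel

/-- The base points. -/
def bpts : List ℕ := br ++ [280, 283, 286, 289, 292, 295]

theorem certAll_of_parts {w : ℕ} {t B next : List ℕ} {words : List (List ℕ)} :
    ∀ (n : ℕ) (ls : List (List ℕ)) (cs : List (ℕ × List ℕ)),
      certAll w t B next words (ls.take n) (cs.take n) = true →
      certAll w t B next words (ls.drop n) (cs.drop n) = true → certAll w t B next words ls cs = true
  | 0, _, _, _, h => by simpa using h
  | _ + 1, [], _, _, _ => by simp [certAll]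
  | _ + 1, _ :: _, [], h, _ => by simp [certAll] at h
  | n + 1, l :: ls, c :: cs, h, h' => by
    simp only [List.take_succ_cons, certAll, Bool.and_eq_true] at h
    simp only [List.drop_succ_cons] at h'
    simp only [certAll, Bool.and_eq_true]
    exact ⟨h.1, certAll_of_parts n ls cs h.2 h'⟩

/-- The candidates of the first level. -/
def cand0 : List (List ℕ) := level0.gens.flatMap fun g => level0.words.map fun l => g :: l

theorem part0_ok : certAll 12 tab bpts level1.gens level0.words (cand0.take 980)
    (level0.cert.take 980) = true := by decide +kernel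

theorem part1_ok : certAll 12 tab bpts level1.gens level0.words ((cand0.drop 980).take 980)
    ((level0.cert.drop 980).take 980) = true := by decide +kernel

theorem part2_ok : certAll 12 tab bpts level1.gens level0.words (((cand0.drop 980).drop 980).take 980)
    (((level0.cert.drop 980).drop 980).take 980) = true := by decide +kernel

theorem part3_ok : certAll 12 tab bpts level1.gens level0.words (((cand0.drop 980).drop 980).drop 980)
    (((level0.cert.drop 980).drop 980).drop 980) = true := by decide +kernel

theorem levRest_ok : chainOK 12 2296 14 tab bpts [level1, level2, level3] = true := by decide +kernel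

theorem levHead_ok : (Nat.blt level0.b 2296 && (level0.gens.all fun k => Nat.blt k 14) &&
    (level1.gens.all fun k => level0.gens.contains k && look 12 (tab.getD k 0) level0.b == level0.b) &&
    (level0.words.all fun l => l.all fun k => level0.gens.contains k) && (level0.words.headD [0]).isEmpty &&
    distinctFrom (level0.words.map fun l => ev 12 tab l level0.b) 0) = true := by decide +kernel

theorem chain_ok : chainOK 12 2296 14 tab bpts chain = true := by
  show (levOK 12 2296 14 tab bpts (nextGens [level1, level2, level3]) level0 &&
    chainOK 12 2296 14 tab bpts [level1, level2, level3]) = true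
  rw [Bool.and_eq_true]
  refine ⟨?_, levRest_ok⟩
  rw [levOK, Bool.and_eq_true]
  exact ⟨levHead_ok, certAll_of_parts 980 _ _ part0_ok
    (certAll_of_parts 980 _ _ part1_ok (certAll_of_parts 980 _ _ part2_ok part3_ok))⟩

/-- The chain on the isotropic points only. -/
def chainLines : List Lev :=
  [level0, level1, { level2 with cert := level2.cert.map fun c => (c.1, []) }]

theorem chainLines_ok : chainOK 12 280 14 tab br chainLines = true := by decide +kernel

theorem chain_data : nextGens chain = List.range 14 ∧
    (chain.map fun L => L.words.length).prod = 9797760 ∧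
    nextGens chainLines = List.range 14 ∧
    (chainLines.map fun L => L.words.length).prod = 3265920 := by decide +kernel

theorem chain_base : ∀ L ∈ chain, L.b = 280 ∨ L.b < 280 := by decide +kernel

/-- Blocks of eighteen are respected. -/
theorem block_ok : ((List.range 14).all fun k => (List.range 112).all fun b =>
    (List.range 18).all fun r =>
      Nat.beq ((look 12 (tab.getD k 0) (280 + 18 * b + r) - 280) / 18)
        ((look 12 (tab.getD k 0) (280 + 18 * b) - 280) / 18)) = true := by decide +kernel

theorem blockWords_ok : ((List.range 112).all fun b =>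
    ((blockWords.getD b []).all fun k => Nat.blt k 8) &&
      Nat.beq ((ev 12 tab (blockWords.getD b []) 280 - 280) / 18) b) = true := by decide +kernel

/-- The first block consists of multiples of the standard vectors. -/
theorem block_zero : ((List.range 18).all fun r => (List.range 6).all fun i =>
    Nat.beq i (r / 3) || Nat.beq ((vecL r).getD i 0) 0) = true := by decide +kernel

theorem std_ok : ((List.range 6).all fun j => (List.range 6).all fun i =>
    Nat.beq ((vecL (3 * j)).getD i 0) (if i = j then 1 else 0)) = true := by decide +kernel

end Cfsg.Agent.SUSixUFour.Cert
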