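import Cfsg.Agent.Lib.SUSixUFour.Frame

/-!
# The Sylow 3-subgroup and its unique abelian subgroup of order 243

* `P9`, `G36`, `Sy` : the permutations and the Sylow 3-subgroup
* `le_Dg_of_le_Sy`, `exists_conj_Dg` : abelian subgroups of order 243 go into the diagonal
-/

set_option autoImplicit false

namespace Cfsg.Agent.SUSixUFour

open Cfsg.Agent.Unitary Cfsg.Agent.U62Cover

/-- The first 3-cycle. -/
def cA : Equiv.Perm (Fin 6) := Equiv.swap 0 1 * Equiv.swap 1 2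

/-- The second 3-cycle. -/
def cB : Equiv.Perm (Fin 6) := Equiv.swap 3 4 * Equiv.swap 4 5

/-- The nine products. -/
def l9 : List (Equiv.Perm (Fin 6)) :=
  [1, cB, cB * cB, cA, cA * cB, cA * cB * cB, cA * cA, cA * cA * cB, cA * cA * cB * cB]

theorem l9_spec : (∀ p ∈ l9, ∀ r ∈ l9, p * r ∈ l9) ∧ (∀ p ∈ l9, p⁻¹ ∈ l9) ∧ l9.Nodup ∧
    (∀ p ∈ l9, Equiv.Perm.sign p = 1) := by
  refine ⟨?_, ?_, ?_, ?_⟩ <;> decide +kernel

/-- The group of nine. -/
def P9 : Subgroup (Equiv.Perm (Fin 6)) where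
  carrier := {p | p ∈ l9}
  one_mem' := show (1 : Equiv.Perm (Fin 6)) ∈ l9 by decide +kernel
  mul_mem' := fun {a b} ha hb => l9_spec.1 a ha b hb
  inv_mem' := fun {a} ha => l9_spec.2.1 a ha

theorem card_P9 : Nat.card P9 = 9 := by
  classical
  have e : Nat.card P9 = l9.toFinset.card := by
    rw [← Nat.card_eq_finsetCard]
    exact Nat.card_congr (Equiv.subtypeEquivRight fun p => by simp [P9])
  rw [e, List.toFinset_card_of_nodup l9_spec.2.2.1]
  rfl

theorem P9_le_alt : P9 ≤ alternatingGroup (Fin 6) := fun p hp => l9_spec.2.2.2 p hp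

theorem cyc_cases : ∀ p ∈ l9, p = 1 ∨ (p 0 = 1 ∧ p 1 = 2) ∨ (p 0 = 2 ∧ p 2 = 1) ∨
    (p 3 = 4 ∧ p 4 = 5) ∨ (p 3 = 5 ∧ p 5 = 4) := by
  decide +kernel

variable {F : Type} [Field F] [Fintype F]

/-- The Sylow 3-subgroup. -/
noncomputable def Sy (F : Type) [Field F] [Fintype F] : Subgroup (S6 F) := lift P9

theorem Sy_le_Mv : Sy F ≤ Mv F := lift_mono P9_le_alt

variable (hF : Fintype.card F = 4)
include hF

theorem card_Sy : Nat.card (Sy F) = 3 ^ 7 := by
  rw [Sy, card_lift hF, card_P9]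
  norm_num

omit hF in
theorem Dg_prod_six {g : S6 F} (hg : g ∈ Dg F) :
    ent g 0 0 * ent g 1 1 * ent g 2 2 * ent g 3 3 * ent g 4 4 * ent g 5 5 = 1 := by
  rw [← Dg_prod hg, Fin.prod_univ_six]

/-- Constant on one triple. -/
theorem card_const_le (A : Subgroup (S6 F))
    (h : (∀ g ∈ A ⊓ Dg F, ent g 1 1 = ent g 0 0 ∧ ent g 2 2 = ent g 0 0) ∨
      (∀ g ∈ A ⊓ Dg F, ent g 4 4 = ent g 3 3 ∧ ent g 5 5 = ent g 3 3)) :
    Nat.card ↥(A ⊓ Dg F) ≤ 27 := by
  classical
  haveI := finite_S6 (F := F)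
  have h27 : Nat.card ({x : F // x ≠ 0} × {x : F // x ≠ 0} × {x : F // x ≠ 0}) = 27 := by
    rw [Nat.card_prod, Nat.card_prod, card_ne_zero hF]
  have h3 : ∀ g ∈ Dg F, ∀ i, ent g i i ^ 3 = 1 := fun g hg i => pow_three hF (Dg_ne hg i)
  rcases h with h | h
  · let f : ↥(A ⊓ Dg F) → {x : F // x ≠ 0} × {x : F // x ≠ 0} × {x : F // x ≠ 0} := fun g =>
      (⟨_, Dg_ne g.2.2 0⟩, ⟨_, Dg_ne g.2.2 3⟩, ⟨_, Dg_ne g.2.2 4⟩)
    refine (Nat.card_le_card_of_injective f fun x y e => Subtype.ext ?_).trans h27.le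
    simp only [f, Prod.mk.injEq, Subtype.mk.injEq] at e
    obtain ⟨e0, e3, e4⟩ := e
    obtain ⟨hx1, hx2⟩ := h x x.2
    obtain ⟨hy1, hy2⟩ := h y y.2
    refine Dg_ext5 x.2.2 y.2.2 fun i hi => ?_
    fin_cases i
    · exact e0
    · exact hx1.trans (e0.trans hy1.symm)
    · exact hx2.trans (e0.trans hy2.symm)
    · exact e3
    · exact e4
    · exact absurd rfl hi
  · let f : ↥(A ⊓ Dg F) → {x : F // x ≠ 0} × {x : F // x ≠ 0} × {x : F // x ≠ 0} := fun g =>
      (⟨_, Dg_ne g.2.2 3⟩, ⟨_, Dg_ne g.2.2 0⟩, ⟨_, Dg_ne g.2.2 1⟩)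
    refine (Nat.card_le_card_of_injective f fun x y e => Subtype.ext ?_).trans h27.le
    simp only [f, Prod.mk.injEq, Subtype.mk.injEq] at e
    obtain ⟨e3, e0, e1⟩ := e
    obtain ⟨hx4, hx5⟩ := h x x.2
    obtain ⟨hy4, hy5⟩ := h y y.2
    have px := Dg_prod_six x.2.2
    have py := Dg_prod_six y.2.2
    have c3 := h3 _ y.2.2 3
    rw [hx4, hx5, e0, e1, e3] at px
    rw [hy4, hy5] at py
    have e2 : ent (x : S6 F) 2 2 = ent (y : S6 F) 2 2 := by
      have hxy : ent (y : S6 F) 0 0 * ent (y : S6 F) 1 1 ≠ 0 :=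
        mul_ne_zero (Dg_ne y.2.2 0) (Dg_ne y.2.2 1)
      refine mul_left_cancel₀ hxy ?_
      linear_combination (px - py) - (ent (y : S6 F) 0 0 * ent (y : S6 F) 1 1 *
        (ent (x : S6 F) 2 2 - ent (y : S6 F) 2 2)) * c3
    refine Dg_ext5 x.2.2 y.2.2 fun i hi => ?_
    fin_cases i
    · exact e0
    · exact e1
    · exact e2
    · exact e3
    · exact hx4.trans (e3.trans hy4.symm)
    · exact absurd rfl hi

/-- An abelian subgroup of order 243 of the Sylow 3-subgroup is the diagonal. -/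
theorem le_Dg_of_le_Sy (A : Subgroup (S6 F)) (hA : A ≤ Sy F)
    (hc : ∀ a ∈ A, ∀ b ∈ A, a * b = b * a) (h243 : Nat.card A = 243) : A ≤ Dg F := by
  classical
  haveI := finite_S6 (F := F)
  let r : A →* Equiv.Perm (Fin 6) :=
    (ph F).comp (Subgroup.inclusion (hA.trans (lift_le_Mn _)))
  have hker : Nat.card r.ker = Nat.card ↥(A ⊓ Dg F) := by
    refine Nat.card_congr ⟨fun x => ⟨x.1.1, x.1.2, ?_⟩, fun x => ⟨⟨x.1, x.2.1⟩, ?_⟩,
      fun _ => rfl, fun _ => rfl⟩
    · have h1 : ph F ⟨x.1.1, (hA.trans (lift_le_Mn _)) x.1.2⟩ = 1 := x.2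
      exact mem_lift.2 ⟨1, one_mem _, fun i j h => ph_spec _ i j (by rw [h1]; exact h)⟩
    · rw [MonoidHom.mem_ker]
      exact ph_eq (g := x.1) _ fun i j h => mem_Dg.1 x.2.2 i j h
  have hr9 : ∀ p ∈ r.range, p ∈ l9 := by
    rintro _ ⟨a, rfl⟩
    obtain ⟨p, hp, h⟩ := mem_lift.1 (hA a.2)
    rw [show r a = p from ph_eq _ h]
    exact hp
  have hmul : Nat.card r.range * Nat.card ↥(A ⊓ Dg F) = 243 := by
    rw [← hker, ← h243, mul_comm, ← Subgroup.card_mul_index r.ker, Subgroup.index_ker]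
  have hrle : r.range ≤ P9 := hr9
  have hcomm : ∀ a : A, ∀ g ∈ A ⊓ Dg F, ∀ j, ent g (r a j) (r a j) = ent g j j := by
    intro a g hg j
    have e := ent_conj_Dg (ph_spec ⟨a.1, (hA.trans (lift_le_Mn _)) a.2⟩) hg.2 j
    rwa [hc a.1 a.2 g hg.1, mul_inv_cancel_right] at e
  have hb : Nat.card r.range = 1 := by
    by_contra hne
    have hbot : r.range ≠ ⊥ := fun h => hne (by rw [h, Subgroup.card_bot])
    obtain ⟨p, hp, hp1⟩ := r.range.bot_or_exists_ne_one.resolve_left hbot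
    obtain ⟨a, rfl⟩ := hp
    have h27 : Nat.card ↥(A ⊓ Dg F) ≤ 27 := by
      refine card_const_le hF A ?_
      rcases cyc_cases _ (hr9 _ ⟨a, rfl⟩) with h | h | h | h | h
      · exact absurd h hp1
      · left
        intro g hg
        have x := hcomm a g hg 0
        have y := hcomm a g hg 1
        rw [h.1] at x
        rw [h.2] at y
        exact ⟨x, y.trans x⟩
      · left
        intro g hg
        have x := hcomm a g hg 0
        have y := hcomm a g hg 2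
        rw [h.1] at x
        rw [h.2] at y
        exact ⟨y.trans x, x⟩
      · right
        intro g hg
        have x := hcomm a g hg 3
        have y := hcomm a g hg 4
        rw [h.1] at x
        rw [h.2] at y
        exact ⟨x, y.trans x⟩
      · right
        intro g hg
        have x := hcomm a g hg 3
        have y := hcomm a g hg 5
        rw [h.1] at x
        rw [h.2] at y
        exact ⟨y.trans x, x⟩
    have hle9 : Nat.card r.range ≤ 9 := card_P9 ▸ Subgroup.card_le_of_le hrle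
    have h9 : Nat.card r.range = 9 := by
      have h27' : Nat.card r.range * 27 ≥ 243 :=
        hmul.symm.le.trans (Nat.mul_le_mul_left _ h27)
      omega
    have hall : r.range = P9 := Subgroup.eq_of_le_of_card_ge hrle (by rw [h9, card_P9])
    obtain ⟨a1, ha1⟩ : cA ∈ r.range := by
      rw [hall]
      show cA ∈ l9
      decide +kernel
    obtain ⟨a2, ha2⟩ : cB ∈ r.range := by
      rw [hall]
      show cB ∈ l9
      decide +kernel
    let f : ↥(A ⊓ Dg F) → {x : F // x ≠ 0} × {x : F // x ≠ 0} := fun g =>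
      (⟨_, Dg_ne g.2.2 0⟩, ⟨_, Dg_ne g.2.2 3⟩)
    have h9' : Nat.card ↥(A ⊓ Dg F) ≤ 9 := by
      refine (Nat.card_le_card_of_injective f fun x y e => Subtype.ext ?_).trans
        (by rw [Nat.card_prod, card_ne_zero hF])
      simp only [f, Prod.mk.injEq, Subtype.mk.injEq] at e
      have u : ∀ z : ↥(A ⊓ Dg F), ent (z : S6 F) 1 1 = ent (z : S6 F) 0 0 ∧
          ent (z : S6 F) 2 2 = ent (z : S6 F) 0 0 ∧ ent (z : S6 F) 4 4 = ent (z : S6 F) 3 3 ∧
          ent (z : S6 F) 5 5 = ent (z : S6 F) 3 3 := by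
        intro z
        have x0 := hcomm a1 z z.2 0
        have x1 := hcomm a1 z z.2 1
        have x3 := hcomm a2 z z.2 3
        have x4 := hcomm a2 z z.2 4
        rw [ha1, show cA 0 = 1 from rfl] at x0
        rw [ha1, show cA 1 = 2 from rfl] at x1
        rw [ha2, show cB 3 = 4 from rfl] at x3
        rw [ha2, show cB 4 = 5 from rfl] at x4
        exact ⟨x0, x1.trans x0, x3, x4.trans x3⟩
      obtain ⟨p1, p2, p4, p5⟩ := u x
      obtain ⟨q1, q2, q4, q5⟩ := u y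
      refine Dg_ext x.2.2 y.2.2 fun i => ?_
      fin_cases i
      · exact e.1
      · exact p1.trans (e.1.trans q1.symm)
      · exact p2.trans (e.1.trans q2.symm)
      · exact e.2
      · exact p4.trans (e.2.trans q4.symm)
      · exact p5.trans (e.2.trans q5.symm)
    rw [h9] at hmul
    omega
  intro x hx
  have h1 : r ⟨x, hx⟩ = 1 := by
    have hm : r ⟨x, hx⟩ ∈ r.range := ⟨_, rfl⟩
    rwa [Subgroup.eq_bot_of_card_eq r.range hb, Subgroup.mem_bot] at hm
  exact mem_lift.2 ⟨1, one_mem _, fun i j h => ph_spec ⟨x, (hA.trans (lift_le_Mn _)) hx⟩ i j (by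
    rw [show ph F ⟨x, (hA.trans (lift_le_Mn _)) hx⟩ = r ⟨x, hx⟩ from rfl, h1]
    exact h)⟩

/-- Inside a group with Sylow 3-subgroup `Sy` an abelian subgroup of order 243 goes to the diagonal. -/
theorem exists_conj_Dg (H A : Subgroup (S6 F)) (hS : Sy F ≤ H) (h3 : ¬ 3 ^ 8 ∣ Nat.card H)
    (hA : A ≤ H) (hc : ∀ a ∈ A, ∀ b ∈ A, a * b = b * a) (h243 : Nat.card A = 243) :
    ∃ h ∈ H, A.map (MulAut.conj h).toMonoidHom = Dg F := by
  haveI := finite_S6 (F := F)
  haveI : Fact (Nat.Prime 3) := ⟨Nat.prime_three⟩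
  have hSp : IsPGroup 3 ((Sy F).subgroupOf H) :=
    IsPGroup.of_card (n := 7) (by
      rw [Nat.card_congr (Subgroup.subgroupOfEquivOfLe hS).toEquiv, card_Sy hF])
  obtain ⟨P, hP⟩ := hSp.exists_le_sylow
  have hcardP : Nat.card P = 3 ^ 7 := by
    obtain ⟨k, hk⟩ := IsPGroup.iff_card.1 P.2
    have hd : 3 ^ k ∣ Nat.card H := hk ▸ Subgroup.card_subgroup_dvd_card P.1
    have hge : 3 ^ 7 ≤ 3 ^ k := by
      rw [← hk, ← card_Sy hF, ← Nat.card_congr (Subgroup.subgroupOfEquivOfLe hS).toEquiv]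
      exact Subgroup.card_le_of_le hP
    have hk7 : 7 ≤ k := (Nat.pow_le_pow_iff_right (by norm_num)).1 hge
    have hk8 : k < 8 := by
      by_contra hlt
      exact h3 ((pow_dvd_pow 3 (by omega : 8 ≤ k)).trans hd)
    rw [show k = 7 by omega] at hk
    exact hk
  have hPe : (P : Subgroup H) = (Sy F).subgroupOf H :=
    (Subgroup.eq_of_le_of_card_ge hP (by
      rw [Nat.card_congr (Subgroup.subgroupOfEquivOfLe hS).toEquiv, card_Sy hF]
      exact hcardP.le)).symm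
  have hAp : IsPGroup 3 (A.subgroupOf H) :=
    IsPGroup.of_card (n := 5) (by
      rw [Nat.card_congr (Subgroup.subgroupOfEquivOfLe hA).toEquiv, h243]
      norm_num)
  obtain ⟨R, hR⟩ := hAp.exists_le_sylow
  obtain ⟨g, hg⟩ := MulAction.exists_smul_eq H R P
  refine ⟨g, g.2, ?_⟩
  have hle : A.map (MulAut.conj (g : S6 F)).toMonoidHom ≤ Sy F := by
    rintro _ ⟨a, ha, rfl⟩
    have h1 : g * ⟨a, hA ha⟩ * g⁻¹ ∈ (P : Subgroup H) := by
      rw [← hg, Sylow.coe_subgroup_smul]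
      exact ⟨⟨a, hA ha⟩, hR (show (⟨a, hA ha⟩ : H) ∈ A.subgroupOf H from ha), rfl⟩
    rw [hPe] at h1
    exact h1
  have hcard : Nat.card ↥(A.map (MulAut.conj (g : S6 F)).toMonoidHom) = 243 :=
    (Subgroup.card_map_of_injective (MulAut.conj _).injective).trans h243
  refine Subgroup.eq_of_le_of_card_ge (le_Dg_of_le_Sy hF _ hle ?_ hcard) (by rw [hcard, card_Dg hF])
  rintro _ ⟨a, ha, rfl⟩ _ ⟨b, hb, rfl⟩
  rw [← map_mul, hc a ha b hb, map_mul]

end Cfsg.Agent.SUSixUFour
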