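import Cfsg.Agent.Lib.SUSixUFour.Checks
import Cfsg.Agent.Lib.SUSixUFour.Sylow

/-!
# The subgroup 3.U4(3) of SU(6,2) from the certificate

* `K1` : the generated subgroup
* `natCard_K1`, `exists_hom_PSU` : its order and the map onto PSU(4,3) with scalar kernel
* `blockInj`, `mon_of_fix` : the 112 frames
-/

set_option autoImplicit false
set_option maxRecDepth 100000

open scoped Matrix

namespace Cfsg.Agent.SUSixUFour

open StabCert Cert Cfsg.Agent.Unitary Cfsg.Agent.U62Cover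

variable {F : Type} [Field F] [Fintype F] (hF : Fintype.card F = 4)

theorem exists_hom_four (hF : Fintype.card F = 4) :
    ∃ φ : M4 →+* F, ∀ z, φ (star z) = φ z ^ 2 := by
  haveI : Fact (Nat.Prime 2) := ⟨Nat.prime_two⟩
  obtain ⟨w, -, hw⟩ := exists_omega hF
  refine Quad.exists_hom (card_sq hF) w ?_ ?_
  · push_cast
    linear_combination hw
  · push_cast
    linear_combination hw + w * two_eq_zero hF

theorem exists_hom_nine {F9 : Type} [Field F9] [Fintype F9] (hF9 : Fintype.card F9 = 9) :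
    ∃ φ : M9 →+* F9, ∀ z, φ (star z) = φ z ^ 3 := by
  haveI : Fact (Nat.Prime 3) := ⟨Nat.prime_three⟩
  have hF' : Fintype.card F9 = 3 ^ 2 := hF9.trans (by norm_num)
  haveI : CharP F9 3 := charP_of_card_eq_prime_pow hF'
  have h3 : (3 : F9) = 0 := by exact_mod_cast CharP.cast_eq_zero F9 3
  have h20 : (2 : F9) ≠ 0 := fun h => one_ne_zero (α := F9) (by linear_combination h3 - h)
  obtain ⟨ω, hω⟩ : IsSquare (2 : F9) := by
    refine (FiniteField.isSquare_iff (fun h => ?_) h20).2 ?_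
    · rw [ringChar.eq F9 3] at h; omega
    · rw [hF9]
      norm_num
      linear_combination 5 * h3
  refine Quad.exists_hom hF' ω ?_ ?_
  · push_cast
    linear_combination -hω
  · push_cast
    linear_combination -ω * hω + ω * h3

variable (φ : M4 →+* F) (hφ : ∀ z, φ (star z) = φ z ^ 2)

include hF in
/-- The six-dimensional generators. -/
noncomputable def g6el (k : ℕ) : S6 F :=
  if h : suOK (m6 k) = true then suOf φ hφ (card_sq hF) (m6 k) h else 1

theorem g6el_ent {k : ℕ} (hk : k < 14) (i j : Fin 6) :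
    ent (g6el hF φ hφ k) i j = φ (m6 k i j) := by
  rw [g6el, dif_pos (g6_ok ⟨k, hk⟩)]
  rfl

/-- The subgroup. -/
noncomputable def K1 : Subgroup (S6 F) := sub (g6el hF φ hφ) (List.range 14)

theorem g6el_mem {k : ℕ} (hk : k < 14) : g6el hF φ hφ k ∈ K1 hF φ hφ :=
  gen_mem_sub _ (List.mem_range.2 hk)

omit [Fintype F] in
theorem phi_injective : Function.Injective φ :=
  Quad.hom_injective (by decide +kernel) φ

/-- The matrix. -/
def mx (g : S6 F) : Matrix (Fin 6) (Fin 6) F := (g.1 : Matrix (Fin 6) (Fin 6) F)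

omit [Fintype F] in
theorem mx_mul (g h : S6 F) : mx (g * h) = mx g * mx h := rfl

omit [Fintype F] in
theorem mx_one : mx (1 : S6 F) = 1 := rfl

/-- The vectors by number. -/
noncomputable def vec (j : ℕ) : Fin 6 → F := φ ∘ qvec 2 1 1 6 (vecL j)

omit [Fintype F] in
theorem qvec_inj {p a b n : ℕ} [NeZero p] {l l' : List ℕ} (hl : l.length = n) (hl' : l'.length = n)
    (hb : ∀ x ∈ l, x < p * p) (hb' : ∀ x ∈ l', x < p * p)
    (h : qvec p a b n l = qvec p a b n l') : l = l' := by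
  refine List.ext_getElem (hl.trans hl'.symm) fun i h1 h2 => ?_
  have e := congrFun h ⟨i, hl ▸ h1⟩
  simp only [qvec, List.getD_eq_getElem _ _ h1, List.getD_eq_getElem _ _ h2] at e
  have u := hb _ (List.getElem_mem h1)
  have v := hb' _ (List.getElem_mem h2)
  generalize l[i] = x, l'[i] = y at e u v ⊢
  have e1 := congrArg QuadraticAlgebra.re e
  have e2 := congrArg QuadraticAlgebra.im e
  simp only [qe, ZMod.natCast_eq_natCast_iff'] at e1 e2
  rw [Nat.mod_mod, Nat.mod_mod] at e1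
  rw [Nat.mod_eq_of_lt (Nat.div_lt_of_lt_mul u), Nat.mod_eq_of_lt (Nat.div_lt_of_lt_mul v)] at e2
  rw [← Nat.mod_add_div x p, ← Nat.mod_add_div y p, e1, e2]

theorem vecL_spec {j : ℕ} (hj : j < 2016) : (vecL j).length = 6 ∧ ∀ x ∈ vecL j, x < 4 := by
  have h := List.all_eq_true.1 vec_ok j (List.mem_range.2 hj)
  simp only [Bool.and_eq_true, beq_iff_eq, List.all_eq_true, Nat.blt_eq] at h
  exact h

omit [Fintype F] in
theorem vec_inj {i j : ℕ} (hi : i < 2016) (hj : j < 2016) (h : vec φ i = vec φ j) : i = j := by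
  haveI : NeZero 2 := ⟨by norm_num⟩
  have e : vecL i = vecL j := qvec_inj (p := 2) (a := 1) (b := 1) (vecL_spec hi).1 (vecL_spec hj).1
    (vecL_spec hi).2 (vecL_spec hj).2 (funext fun k => phi_injective φ (congrFun h k))
  have hn := (distinctFrom_spec _ _ vec_distinct).1
  exact (List.inj_on_of_nodup_map hn) (List.mem_range.2 hi) (List.mem_range.2 hj) (by rw [e])

section pair

variable {F9 : Type} [Field F9] [Fintype F9] (hF9 : Fintype.card F9 = 3 ^ 2) (ψ : M9 →+* F9)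
  (hψ : ∀ z, ψ (star z) = ψ z ^ 3)

/-- PSU(4,3) on the isotropic points. -/
abbrev PU (F9 : Type) [Field F9] [Fintype F9] : Subgroup (Equiv.Perm (IsoLine 4 F9 3)) :=
  (permHom 4 F9 3).range

include hF9 in
/-- The generators on the isotropic points. -/
noncomputable def g4el (k : ℕ) : PU F9 :=
  if h : suOK (m4 k) = true then ⟨permHom 4 F9 3 (suOf ψ hψ hF9 (m4 k) h), _, rfl⟩ else 1

/-- The action on vectors. -/
noncomputable def vecHom : S6 F →* Equiv.Perm (Fin 6 → F) :=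
  MonoidHom.mk' (fun g =>
    { toFun := fun v => (g.1 : Matrix (Fin 6) (Fin 6) F) *ᵥ v
      invFun := fun v => ((g⁻¹ : S6 F).1 : Matrix (Fin 6) (Fin 6) F) *ᵥ v
      left_inv := fun v => by
        show mx g⁻¹ *ᵥ (mx g *ᵥ v) = v
        rw [Matrix.mulVec_mulVec, ← mx_mul, inv_mul_cancel, mx_one, Matrix.one_mulVec]
      right_inv := fun v => by
        show mx g *ᵥ (mx g⁻¹ *ᵥ v) = v
        rw [Matrix.mulVec_mulVec, ← mx_mul, mul_inv_cancel, mx_one, Matrix.one_mulVec] })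
    fun g h => Equiv.ext fun v => by
      show mx (g * h) *ᵥ v = mx g *ᵥ (mx h *ᵥ v)
      rw [Matrix.mulVec_mulVec, mx_mul]

omit [Fintype F] in
theorem vecHom_apply (g : S6 F) (v : Fin 6 → F) :
    vecHom g v = mx g *ᵥ v := rfl

/-- The paired generators. -/
noncomputable def pgen (k : ℕ) : S6 F × PU F9 := (g6el hF φ hφ k, g4el hF9 ψ hψ k)

/-- The joint action. -/
noncomputable def rho : S6 F × PU F9 →* Equiv.Perm (IsoLine 4 F9 3 ⊕ (Fin 6 → F)) :=
  (Equiv.Perm.sumCongrHom _ _).comp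
    (((PU F9).subtype.comp (MonoidHom.snd _ _)).prod (vecHom.comp (MonoidHom.fst _ _)))

theorem right_zero : lineOK (qvec 3 2 0 4 (rightL 0)) = true := (right_ok ⟨0, by norm_num⟩).1

/-- The isotropic points by number. -/
noncomputable def ipt (j : ℕ) : IsoLine 4 F9 3 :=
  if h : lineOK (qvec 3 2 0 4 (rightL j)) = true then lineOf ψ hψ _ h
  else lineOf ψ hψ _ right_zero

theorem ipt_eq {j : ℕ} (hj : j < 280) :
    ipt ψ hψ j = lineOf ψ hψ _ (right_ok ⟨j, hj⟩).1 := by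
  rw [ipt, dif_pos (right_ok ⟨j, hj⟩).1]

/-- The joint points. -/
noncomputable def jpt (i : ℕ) : IsoLine 4 F9 3 ⊕ (Fin 6 → F) :=
  if i < 280 then .inl (ipt ψ hψ i) else .inr (vec φ (i - 280))

theorem sound_lines : TablesSound (PU F9).subtype (g4el hF9 ψ hψ) (ipt ψ hψ) 12 280 14 tab := by
  intro k hk j hj
  have h := tab_ok ⟨k, hk⟩
  simp only [tabOKk, Bool.and_eq_true, List.all_eq_true, List.mem_range, Nat.blt_eq] at h
  obtain ⟨h1, h2⟩ := h.1 j hj
  refine ⟨h1, ?_⟩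
  rw [ipt_eq ψ hψ hj, ipt_eq ψ hψ h1, g4el, dif_pos (g4_ok ⟨k, hk⟩)]
  haveI : NeZero 3 := ⟨by norm_num⟩
  exact smul_lineOf ψ hψ hF9 (g4_ok ⟨k, hk⟩) _ _ (propOK_spec h2)

theorem g6el_vec {k j : ℕ} (hk : k < 14) (hj : j < 2016) :
    280 ≤ look 12 (tab.getD k 0) (280 + j) ∧ look 12 (tab.getD k 0) (280 + j) < 2296 ∧
      vecHom (g6el hF φ hφ k) (vec φ j) = vec φ (look 12 (tab.getD k 0) (280 + j) - 280) := by
  have h := tab_ok ⟨k, hk⟩
  simp only [tabOKk, Bool.and_eq_true, List.all_eq_true, List.mem_range, Nat.blt_eq, Nat.ble_eq,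
    beq_iff_eq] at h
  obtain ⟨⟨h1, h2⟩, h3⟩ := h.2 j hj
  refine ⟨h1, h2, ?_⟩
  haveI : NeZero 2 := ⟨by norm_num⟩
  have hlen := (vecL_spec hj).1
  rw [vec, vec, ← h3]
  funext i
  rw [vecHom_apply]
  show ∑ l, ent (g6el hF φ hφ k) i l * φ (qvec 2 1 1 6 (vecL j) l) = φ _
  simp only [g6el_ent hF φ hφ hk, ← map_mul, ← map_sum]
  congr 1
  simp only [qvec, m6, qmat, Matrix.of_apply]
  rw [show (0 : ℕ) = dotC 2 1 1 [] (vecL j) from rfl,
    List.getD_map (f := fun r => dotC 2 1 1 r (vecL j)), qe_dotC, hlen, Finset.sum_range]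
  rfl

theorem sound : TablesSound (rho (F := F) (F9 := F9)) (pgen hF φ hφ hF9 ψ hψ) (jpt φ ψ hψ)
    12 2296 14 tab := by
  intro k hk i hi
  by_cases h : i < 280
  · obtain ⟨h1, h2⟩ := sound_lines hF9 ψ hψ k hk i h
    refine ⟨by omega, ?_⟩
    rw [jpt, if_pos h, jpt, if_pos h1]
    exact congrArg Sum.inl h2
  · obtain ⟨h1, h2, h3⟩ := g6el_vec hF φ hφ hk (show i - 280 < 2016 by omega)
    rw [show 280 + (i - 280) = i by omega] at h1 h2 h3
    refine ⟨h2, ?_⟩
    rw [jpt, if_neg h, jpt, if_neg (by omega)]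
    exact congrArg Sum.inr h3

theorem ipt_injOn : Set.InjOn (ipt ψ hψ) {i | i < 280} := by
  intro i (hi : i < 280) j (hj : j < 280) e
  rw [ipt_eq ψ hψ hi, ipt_eq ψ hψ hj] at e
  have e' := lineOf_inj ψ hψ (Quad.hom_injective (by decide +kernel) ψ) _ _ e
  haveI : NeZero 3 := ⟨by norm_num⟩
  have e2 : rightL i = rightL j := qvec_inj (p := 3) (a := 2) (b := 0) (right_ok ⟨i, hi⟩).2.1
    (right_ok ⟨j, hj⟩).2.1 (right_ok ⟨i, hi⟩).2.2 (right_ok ⟨j, hj⟩).2.2 e'
  have hn := (distinctFrom_spec _ _ right_distinct).1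
  exact (List.inj_on_of_nodup_map hn) (List.mem_range.2 hi) (List.mem_range.2 hj) (by rw [e2])

theorem jpt_injOn : Set.InjOn (jpt φ ψ hψ) {i | i < 2296} := by
  intro i (hi : i < 2296) j (hj : j < 2296) e
  by_cases a : i < 280 <;> by_cases b : j < 280
  · rw [jpt, if_pos a, jpt, if_pos b] at e
    exact ipt_injOn ψ hψ a b (Sum.inl_injective e)
  · rw [jpt, if_pos a, jpt, if_neg b] at e
    exact absurd e Sum.inl_ne_inr
  · rw [jpt, if_neg a, jpt, if_pos b] at e
    exact absurd e Sum.inr_ne_inl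
  · rw [jpt, if_neg a, jpt, if_neg b] at e
    have := vec_inj φ (by omega) (by omega) (Sum.inr_injective e)
    omega

include hF9 in
theorem lines_det {g : PU F9} (h : ∀ b ∈ br, (g : Equiv.Perm _) (ipt ψ hψ b) = ipt ψ hψ b) :
    g = 1 := by
  obtain ⟨hgp, hlen, hb⟩ := base_ok
  obtain ⟨s, hs⟩ := g.2
  have hm : ∀ j, j ≤ 4 → br.getD j 0 ∈ br := fun j hj => by
    rw [List.getD_eq_getElem _ _ (show j < br.length by omega)]
    exact List.getElem_mem _
  have hline : ∀ j, (hj : j ≤ 4) → s • lineOf ψ hψ _ (right_ok ⟨_, hb _ (hm j hj)⟩).1 =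
      lineOf ψ hψ _ (right_ok ⟨_, hb _ (hm j hj)⟩).1 := by
    intro j hj
    have := h _ (hm j hj)
    rw [ipt_eq ψ hψ (hb _ (hm j hj)), ← hs] at this
    exact this
  have hW : ∀ i, lineOK (bmatᵀ i) = true := fun i =>
    (right_ok ⟨_, hb _ (hm i.val (le_of_lt i.isLt))⟩).1
  have hc := mem_center_of_fix ψ hψ hF9 (by norm_num) hgp hW (right_ok ⟨_, hb _ (hm 4 le_rfl)⟩).1 s
    (fun i => hline i.val (le_of_lt i.isLt)) (hline 4 le_rfl)
  rw [← ker_permHom hF9 (by norm_num : 2 ≤ 4)] at hc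
  exact Subtype.ext (hs ▸ hc)

omit [Fintype F] in
theorem vec_std (j : Fin 6) : vec φ (3 * j.val) = Pi.single j 1 := by
  funext i
  have h := List.all_eq_true.1 (List.all_eq_true.1 std_ok j.val (List.mem_range.2 j.isLt)) i.val
    (List.mem_range.2 i.isLt)
  rw [Nat.beq_eq] at h
  show φ (qe 2 1 1 _) = _
  rw [h]
  rcases eq_or_ne i j with rfl | hij
  · rw [if_pos rfl, Pi.single_eq_same, show qe 2 1 1 1 = (1 : M4) by decide +kernel, map_one]
  · rw [if_neg (fun e => hij (Fin.ext e)), Pi.single_eq_of_ne hij,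
      show qe 2 1 1 0 = (0 : M4) by decide +kernel, map_zero]

include hF9 in
theorem det_pair {g : S6 F × PU F9}
    (h : ∀ b ∈ bpts, rho g (jpt φ ψ hψ b) = jpt φ ψ hψ b) : g = 1 := by
  refine Prod.ext (ext_ent fun i j => ?_) (lines_det hF9 ψ hψ fun b hb => ?_)
  · have hj : 280 + 3 * j.val ∈ bpts := by
      refine List.mem_append_right _ ?_
      revert j; decide
    have := h _ hj
    rw [jpt, if_neg (by omega)] at this
    have e := congrFun (Sum.inr_injective this :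
      vecHom g.1 (vec φ (280 + 3 * j.val - 280)) = vec φ (280 + 3 * j.val - 280)) i
    rw [Nat.add_sub_cancel_left, vec_std, vecHom_apply, Matrix.mulVec_single_one] at e
    refine e.trans ?_
    show _ = ent (1 : S6 F) i j
    rw [ent_one, Pi.single_apply]
  · have := h b (List.mem_append_left _ hb)
    have hlt : b < 280 := base_ok.2.2 b hb
    rw [jpt, if_pos hlt] at this
    exact Sum.inl_injective this

/-- The paired group. -/
noncomputable def HP : Subgroup (S6 F × PU F9) := sub (pgen hF φ hφ hF9 ψ hψ) (List.range 14)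

theorem HP_spec : Nat.card (HP hF φ hφ hF9 ψ hψ) = 9797760 ∧
    ∀ g ∈ HP hF φ hφ hF9 ψ hψ, (∀ L ∈ chain, rho g (jpt φ ψ hψ L.b) = jpt φ ψ hψ L.b) → g = 1 := by
  haveI := finite_S6 (F := F)
  haveI : Finite (IsoLine 4 F9 3) :=
    Finite.of_injective (fun P => ((P.1 : Submodule F9 (Fin 4 → F9)) : Set (Fin 4 → F9)))
      fun P Q e => Subtype.ext (SetLike.ext' e)
  obtain ⟨-, hc, ht⟩ := chain_spec (sound hF φ hφ hF9 ψ hψ) (jpt_injOn φ ψ hψ)
    (show ∀ β ∈ bpts, β < 2296 by decide +kernel)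
    (fun g _ h => det_pair φ hF9 ψ hψ h) chain chain_ok
  rw [chain_data.1] at hc ht
  exact ⟨hc.trans chain_data.2.1, ht⟩

include hF9 in
theorem card_PU : Nat.card (PU F9) = 3265920 := by
  obtain ⟨e⟩ := nonempty_range_permHom (n := 4) (p := 3) hF9 (by norm_num)
  rw [Nat.card_congr e.toEquiv]
  have h := Unitary.card_PSU (n := 4) hF9 (by norm_num)
  simp [Finset.prod_range_succ, Nat.even_iff] at h
  omega

theorem sub_g4el : sub (g4el hF9 ψ hψ) (List.range 14) = ⊤ := by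
  haveI : Finite (IsoLine 4 F9 3) :=
    Finite.of_injective (fun P => ((P.1 : Submodule F9 (Fin 4 → F9)) : Set (Fin 4 → F9)))
      fun P Q e => Subtype.ext (SetLike.ext' e)
  obtain ⟨-, hc, -⟩ := chain_spec (sound_lines hF9 ψ hψ) (ipt_injOn ψ hψ)
    (show ∀ β ∈ br, β < 280 from base_ok.2.2)
    (fun g _ h => lines_det hF9 ψ hψ h) chainLines chainLines_ok
  rw [chain_data.2.2.1] at hc
  refine Subgroup.eq_top_of_le_card _ ?_
  rw [hc, chain_data.2.2.2, card_PU hF9]

theorem HP_fst : (HP hF φ hφ hF9 ψ hψ).map (MonoidHom.fst _ _) = K1 hF φ hφ := by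
  rw [HP, K1, sub, sub, MonoidHom.map_closure, ← Set.image_comp]
  rfl

theorem HP_snd : (HP hF φ hφ hF9 ψ hψ).map (MonoidHom.snd _ _) = ⊤ := by
  rw [← sub_g4el hF9 ψ hψ, HP, sub, sub, MonoidHom.map_closure, ← Set.image_comp]
  rfl

omit [Fintype F] in
theorem m6_eight_ok : ((List.finRange 6).all fun i => (List.finRange 6).all fun j =>
    @decide (m6 8 i j = if i = j then qe 2 1 1 2 else 0) (instDecidableEqQuadraticAlgebra _ _)) = true := by
  decide +kernel

omit [Fintype F] in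
theorem m6_eight (i j : Fin 6) : m6 8 i j = if i = j then qe 2 1 1 2 else 0 :=
  of_decide_eq_true (List.all_eq_true.1 (List.all_eq_true.1 m6_eight_ok i (List.mem_finRange i)) j
    (List.mem_finRange j))

theorem kernel_snd : ∀ x ∈ HP hF φ hφ hF9 ψ hψ, x.2 = 1 → x.1 ∈ Z6 F := by
  haveI := finite_S6 (F := F)
  obtain ⟨hc, -⟩ := HP_spec hF φ hφ hF9 ψ hψ
  let f : HP hF φ hφ hF9 ψ hψ →* PU F9 := (MonoidHom.snd _ _).comp (Subgroup.subtype _)
  have hf : f.range = ⊤ := by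
    rw [MonoidHom.range_comp, Subgroup.range_subtype]
    exact HP_snd hF φ hφ hF9 ψ hψ
  have hk : Nat.card f.ker = 3 := by
    have := Subgroup.card_mul_index f.ker
    rw [Subgroup.index_ker, hf, Subgroup.card_top, card_PU hF9, hc] at this
    omega
  have hz : (pgen hF φ hφ hF9 ψ hψ 8) ∈ HP hF φ hφ hF9 ψ hψ :=
    gen_mem_sub _ (List.mem_range.2 (by norm_num))
  let z : f.ker := ⟨⟨_, hz⟩, by
    rw [MonoidHom.mem_ker]
    show g4el hF9 ψ hψ 8 = 1
    rw [g4el, dif_pos (g4_ok ⟨8, by norm_num⟩)]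
    refine Subtype.ext ?_
    show permHom 4 F9 3 _ = 1
    rw [show suOf ψ hψ hF9 (m4 8) (g4_ok ⟨8, by norm_num⟩) = 1 from Subtype.ext (Subtype.ext (by
      show (m4 8).map ψ = 1
      rw [show m4 8 = 1 by decide +kernel, Matrix.map_one _ (map_zero ψ) (map_one ψ)])), map_one]⟩
  have hent : ∀ i j, ent (g6el hF φ hφ 8) i j = if i = j then φ (qe 2 1 1 2) else 0 := fun i j => by
    rw [g6el_ent hF φ hφ (by norm_num), m6_eight, apply_ite φ, map_zero]
  have hzZ : g6el hF φ hφ 8 ∈ Z6 F :=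
    mem_Z6_of_const (mem_Dg.2 fun i j h => by rw [hent, if_neg h]) fun i => by simp [hent]
  have hz1 : z ≠ 1 := by
    intro e
    have e' : g6el hF φ hφ 8 = 1 := congrArg (fun t : f.ker => t.1.1.1) e
    have := hent 0 0
    rw [e', ent_one, if_pos rfl, if_pos rfl, ← map_one φ] at this
    exact absurd (phi_injective φ this) (by decide +kernel)
  haveI : Fact (Nat.Prime 3) := ⟨Nat.prime_three⟩
  intro x hx h2
  have hmem : (⟨⟨x, hx⟩, h2⟩ : f.ker) ∈ Subgroup.zpowers z :=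
    mem_zpowers_of_prime_card hk hz1
  obtain ⟨n, hn⟩ := Subgroup.mem_zpowers_iff.1 hmem
  have e : (g6el hF φ hφ 8) ^ n = x.1 :=
    congrArg (fun t : f.ker => t.1.1.1) hn
  rw [← e]
  exact zpow_mem hzZ n

theorem kernel_fst : ∀ x ∈ HP hF φ hφ hF9 ψ hψ, x.1 = 1 → x = 1 := by
  haveI := finite_S6 (F := F)
  let N : Subgroup (PU F9) := (HP hF φ hφ hF9 ψ hψ).comap (MonoidHom.inr (S6 F) (PU F9))
  have hsur : ∀ y : PU F9, ∃ g ∈ HP hF φ hφ hF9 ψ hψ, g.2 = y := fun y => by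
    have : y ∈ (HP hF φ hφ hF9 ψ hψ).map (MonoidHom.snd _ _) := by
      rw [HP_snd]; trivial
    exact Subgroup.mem_map.1 this
  have hN : N.Normal := ⟨fun n hn y => by
    obtain ⟨g, hg, rfl⟩ := hsur y
    have := mul_mem (mul_mem hg hn) (inv_mem hg)
    rw [Subgroup.mem_comap]
    convert this using 1
    simp [Prod.ext_iff]⟩
  haveI : IsSimpleGroup (PU F9) := by
    obtain ⟨e⟩ := nonempty_range_permHom (n := 4) (p := 3) hF9 (by norm_num)
    haveI := isSimpleGroup_PSU (n := 4) hF9 (Or.inl le_rfl)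
    exact e.isSimpleGroup_congr.2 inferInstance
  intro x hx h1
  have hxN : x.2 ∈ N := by
    rw [Subgroup.mem_comap]
    convert hx using 1
    exact Prod.ext h1.symm rfl
  rcases hN.eq_bot_or_eq_top with h | h
  · rw [h, Subgroup.mem_bot] at hxN
    exact Prod.ext h1 hxN
  · have h7 : pgen hF φ hφ hF9 ψ hψ 7 ∈ HP hF φ hφ hF9 ψ hψ :=
      gen_mem_sub _ (List.mem_range.2 (by norm_num))
    have hn : g4el hF9 ψ hψ 7 ∈ N := h ▸ Subgroup.mem_top _
    have hm : ((g6el hF φ hφ 7, 1) : S6 F × PU F9) ∈ HP hF φ hφ hF9 ψ hψ := by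
      have := mul_mem h7 (inv_mem (Subgroup.mem_comap.1 hn))
      convert this using 1
      simp [pgen]
    have hZ := kernel_snd hF φ hφ hF9 ψ hψ _ hm rfl
    obtain ⟨i, j, hij, hne⟩ : ∃ i j : Fin 6, i ≠ j ∧ m6 7 i j ≠ 0 := by
      have h : ((List.finRange 6).any fun i => (List.finRange 6).any fun j =>
          !decide (i = j) && !@decide (m6 7 i j = 0) (instDecidableEqQuadraticAlgebra _ _)) = true := by
        decide +kernel
      simp only [List.any_eq_true, Bool.and_eq_true, Bool.not_eq_true', decide_eq_false_iff_not] at h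
      obtain ⟨i, -, j, -, h1, h2⟩ := h
      exact ⟨i, j, h1, h2⟩
    have := mem_Dg.1 hZ.1 i j hij
    rw [g6el_ent hF φ hφ (by norm_num), ← map_zero φ] at this
    exact absurd (phi_injective φ this) hne

include hF9 hψ in
/-- The order and the quotient. -/
theorem exists_hom_PSU : Nat.card (K1 hF φ hφ) = 9797760 ∧
    ∃ f : K1 hF φ hφ →* Cfsg.PSU 4 F9 3, Function.Surjective f ∧
      ∀ x : K1 hF φ hφ, f x = 1 ↔ (x : S6 F) ∈ Z6 F := by
  haveI := finite_S6 (F := F)
  obtain ⟨hc, -⟩ := HP_spec hF φ hφ hF9 ψ hψ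
  let p1 : HP hF φ hφ hF9 ψ hψ →* K1 hF φ hφ :=
    ((MonoidHom.fst _ _).comp (Subgroup.subtype _)).codRestrict _ fun x => by
      rw [← HP_fst hF φ hφ hF9 ψ hψ]
      exact ⟨x.1, x.2, rfl⟩
  have hb : Function.Bijective p1 := by
    refine ⟨(injective_iff_map_eq_one p1).2 fun x hx =>
      Subtype.ext (kernel_fst hF φ hφ hF9 ψ hψ _ x.2 (congrArg Subtype.val hx)), fun y => ?_⟩
    have hy : (y : S6 F) ∈ (HP hF φ hφ hF9 ψ hψ).map (MonoidHom.fst _ _) := by
      rw [HP_fst]; exact y.2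
    obtain ⟨g, hg, e⟩ := Subgroup.mem_map.1 hy
    exact ⟨⟨g, hg⟩, Subtype.ext e⟩
  let e := MulEquiv.ofBijective p1 hb
  obtain ⟨eP⟩ := nonempty_range_permHom (n := 4) (p := 3) hF9 (by norm_num)
  let f : K1 hF φ hφ →* Cfsg.PSU 4 F9 3 :=
    eP.toMonoidHom.comp (((MonoidHom.snd _ _).comp (Subgroup.subtype _)).comp e.symm.toMonoidHom)
  have hK : Nat.card (K1 hF φ hφ) = 9797760 := (Nat.card_congr e.toEquiv).symm.trans hc
  have hs : Function.Surjective f := by
    intro y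
    obtain ⟨u, rfl⟩ := eP.surjective y
    have : u ∈ (HP hF φ hφ hF9 ψ hψ).map (MonoidHom.snd _ _) := by
      rw [HP_snd]; trivial
    obtain ⟨g, hg, rfl⟩ := Subgroup.mem_map.1 this
    exact ⟨e ⟨g, hg⟩, by simp [f]⟩
  refine ⟨hK, f, hs, fun x => ?_⟩
  obtain ⟨y, rfl⟩ := e.surjective x
  constructor
  · intro h
    refine kernel_snd hF φ hφ hF9 ψ hψ y.1 y.2 ?_
    have h' : eP y.1.2 = 1 := by simpa [f] using h
    exact eP.map_eq_one_iff.1 h'
  · intro h
    have hc' := h.2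
    have hcen : e y ∈ Subgroup.center (K1 hF φ hφ) :=
      Subgroup.mem_center_iff.2 fun g => Subtype.ext (Subgroup.mem_center_iff.1 hc' g.1)
    haveI := isSimpleGroup_PSU (n := 4) hF9 (Or.inl le_rfl)
    have hz : f (e y) ∈ Subgroup.center (Cfsg.PSU 4 F9 3) := Subgroup.mem_center_iff.2 fun v => by
      obtain ⟨g, rfl⟩ := hs v
      rw [← map_mul, ← map_mul, Subgroup.mem_center_iff.1 hcen g]
    rcases (inferInstance : (Subgroup.center (Cfsg.PSU 4 F9 3)).Normal).eq_bot_or_eq_top with hb | hb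
    · rw [hb, Subgroup.mem_bot] at hz
      exact hz
    · exfalso
      have hcomm : ∀ u v : Cfsg.PSU 4 F9 3, u * v = v * u := fun u v =>
        (Subgroup.mem_center_iff.1 (show v ∈ Subgroup.center _ from hb ▸ Subgroup.mem_top _) u)
      haveI : Finite (Cfsg.PSU 4 F9 3) := Finite.of_surjective f hs
      have hcard : Nat.card (Cfsg.PSU 4 F9 3) = 3265920 := by
        rw [← Nat.card_congr eP.toEquiv, card_PU hF9]
      letI : CommGroup (Cfsg.PSU 4 F9 3) := { (inferInstance : Group (Cfsg.PSU 4 F9 3)) with mul_comm := hcomm }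
      have hp := IsSimpleGroup.prime_card (α := Cfsg.PSU 4 F9 3)
      rw [hcard] at hp
      exact absurd (hp.eq_one_or_self_of_dvd 2 (by norm_num)) (by norm_num)

end pair

end Cfsg.Agent.SUSixUFour
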