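import Cfsg.Agent.Lib.SUSixUFour.Classify

/-!
# Three classes of 3.U4(3) in SU(6,2)

* `Kk_center_quotient`, `Kk_not_conj` : the three subgroups
* `three_classes` : the classification statement
-/

set_option autoImplicit false
set_option maxRecDepth 100000

namespace Cfsg.Agent.SUSixUFour

open StabCert Cert Cfsg.Agent.Unitary Cfsg.Agent.U62Cover

variable {F : Type} [Field F] [Fintype F] (hF : Fintype.card F = 4)
variable (φ : M4 →+* F) (hφ : ∀ z, φ (star z) = φ z ^ 2)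
variable {F9 : Type} [Field F9] [Fintype F9] (hF9 : Fintype.card F9 = 3 ^ 2) (ψ : M9 →+* F9)
  (hψ : ∀ z, ψ (star z) = ψ z ^ 3)
include hF9 hψ

theorem Kk_center_quotient (k : ℕ) :
    Nat.card ↥(Subgroup.center ↥(Kk hF φ hφ k)) = 3 ∧
      Nonempty (↥(Kk hF φ hφ k) ⧸ Subgroup.center ↥(Kk hF φ hφ k) ≃* Cfsg.PSU 4 F9 3) := by
  haveI := finite_S6 (F := F)
  obtain ⟨-, f, hs, hk⟩ := exists_hom_PSU hF φ hφ hF9 ψ hψ
  let e := (K1 hF φ hφ).equivMapOfInjective (dd hF φ k).toMonoidHom (dd hF φ k).injective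
  let f' : Kk hF φ hφ k →* Cfsg.PSU 4 F9 3 := f.comp e.symm.toMonoidHom
  have hs' : Function.Surjective f' := hs.comp e.symm.surjective
  have hZ : ∀ x : S6 F, dd hF φ k x ∈ Z6 F ↔ x ∈ Z6 F := by
    intro x
    have hh : ∀ (e : S6 F ≃* S6 F) (y : S6 F), y ∈ Subgroup.center (S6 F) →
        e y ∈ Subgroup.center (S6 F) := fun e y hy => Subgroup.mem_center_iff.2 fun z => by
      obtain ⟨z, rfl⟩ := e.surjective z
      rw [← map_mul, ← map_mul, Subgroup.mem_center_iff.1 hy z]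
    constructor
    · intro h
      exact (scalar_of_center hF (by simpa using hh (dd hF φ k).symm _ h.2)).1
    · intro h
      exact (scalar_of_center hF (hh _ _ h.2)).1
  have hker : f'.ker = Subgroup.center ↥(Kk hF φ hφ k) := by
    ext x
    have hx : f' x = 1 ↔ (x : S6 F) ∈ Z6 F := by
      obtain ⟨y, rfl⟩ := e.surjective x
      show f (e.symm (e y)) = 1 ↔ dd hF φ k y ∈ Z6 F
      rw [e.symm_apply_apply, hZ, hk]
    rw [MonoidHom.mem_ker, hx]
    constructor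
    · exact fun h => Subgroup.mem_center_iff.2 fun g =>
        Subtype.ext (Subgroup.mem_center_iff.1 h.2 g)
    · exact fun h => scalar_of_comm_Mv hF fun m hm =>
        (congrArg Subtype.val (Subgroup.mem_center_iff.1 h ⟨m, Mv_le_Kk hF φ hφ hF9 ψ hψ k hm⟩)).symm
  refine ⟨?_, ⟨(QuotientGroup.quotientMulEquivOfEq hker.symm).trans
    (QuotientGroup.quotientKerEquivOfSurjective f' hs')⟩⟩
  rw [← hker]
  have h := Subgroup.card_mul_index f'.ker
  have h1 := Subgroup.card_mul_index f.ker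
  rw [Subgroup.index_ker, MonoidHom.range_eq_top.2 hs', Subgroup.card_top, card_Kk hF φ hφ hF9 ψ hψ] at h
  rw [Subgroup.index_ker, MonoidHom.range_eq_top.2 hs, Subgroup.card_top,
    (exists_hom_PSU hF φ hφ hF9 ψ hψ).1] at h1
  have h3 : Nat.card f.ker = 3 := by
    rw [show f.ker = (Z6 F).subgroupOf (K1 hF φ hφ) from Subgroup.ext hk,
      Nat.card_congr (Subgroup.subgroupOfEquivOfLe (show Z6 F ≤ K1 hF φ hφ from fun z hz => Dg_le_K1 hF φ hφ hz.1)).toEquiv,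
      card_Z6 hF]
  rw [h3] at h1
  have hpos : 0 < Nat.card (Cfsg.PSU 4 F9 3) := by omega
  exact Nat.eq_of_mul_eq_mul_right hpos (h.trans h1.symm)

theorem Kk_not_conj {a b : ℕ} (ha : a < 3) (hb : b < 3) (hab : a ≠ b) :
    ¬ ∃ g : S6 F, (Kk hF φ hφ a).map (MulAut.conj g).toMonoidHom = Kk hF φ hφ b := by
  haveI := finite_S6 (F := F)
  rintro ⟨g, hg⟩
  have hDa : Dg F ≤ Kk hF φ hφ a := (Dg_le_lift _).trans (Mv_le_Kk hF φ hφ hF9 ψ hψ a)
  have hA : (Dg F).map (MulAut.conj g).toMonoidHom ≤ Kk hF φ hφ b := hg ▸ Subgroup.map_mono hDa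
  have hc : ∀ x ∈ (Dg F).map (MulAut.conj g).toMonoidHom, ∀ y ∈ (Dg F).map (MulAut.conj g).toMonoidHom,
      x * y = y * x := by
    rintro _ ⟨x, hx, rfl⟩ _ ⟨y, hy, rfl⟩
    rw [← map_mul, ← map_mul]
    refine congrArg _ (Dg_ext (mul_mem hx hy) (mul_mem hy hx) fun i => ?_)
    rw [ent_mul_mon (r := 1) (fun u v h => mem_Dg.1 hy u v h) i i,
      ent_mul_mon (r := 1) (fun u v h => mem_Dg.1 hx u v h) i i, Equiv.Perm.one_apply, mul_comm]
  obtain ⟨h, hh, e⟩ := exists_conj_Dg hF (Kk hF φ hφ b) _ (Sy_le_Mv.trans (Mv_le_Kk hF φ hφ hF9 ψ hψ b))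
    (by rw [card_Kk hF φ hφ hF9 ψ hψ]; norm_num) hA hc
    ((Subgroup.card_map_of_injective (MulAut.conj g).injective).trans (card_Dg hF))
  have hm : h * g ∈ Mn F := mon_of_normalizes hF fun d hd => by
    rw [← e]
    exact ⟨g * d * g⁻¹, ⟨d, hd, rfl⟩, by simp [mul_assoc]⟩
  have hfix := mon_fixes hF φ hφ hF9 ψ hψ hm a
  have hb' : (Kk hF φ hφ b).map (MulAut.conj h).toMonoidHom = Kk hF φ hφ b :=
    Subgroup.eq_of_le_of_card_ge
      (by rintro _ ⟨x, hx, rfl⟩; exact mul_mem (mul_mem hh hx) (inv_mem hh))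
      (Subgroup.card_map_of_injective (MulAut.conj h).injective).ge
  refine hab (Kk_injective hF φ hφ hF9 ψ hψ ha hb ?_)
  rw [← hfix, ← hb', ← hg, Subgroup.map_map]
  congr 1
  ext x
  simp [mul_assoc]

omit hψ in
include hF hF9 in
theorem three_classes : ∃ K₁ K₂ K₃ : Subgroup (S6 F),
    (∀ K ∈ [K₁, K₂, K₃], Nat.card ↥(Subgroup.center ↥K) = 3 ∧
      Nonempty (↥K ⧸ Subgroup.center ↥K ≃* Cfsg.PSU 4 F9 3)) ∧
    (¬ ∃ g : S6 F, K₁.map (MulAut.conj g).toMonoidHom = K₂) ∧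
    (¬ ∃ g : S6 F, K₁.map (MulAut.conj g).toMonoidHom = K₃) ∧
    (¬ ∃ g : S6 F, K₂.map (MulAut.conj g).toMonoidHom = K₃) ∧
    ∀ K : Subgroup (S6 F), Nat.card ↥(Subgroup.center ↥K) = 3 →
      Nonempty (↥K ⧸ Subgroup.center ↥K ≃* Cfsg.PSU 4 F9 3) →
      ∃ g : S6 F, K.map (MulAut.conj g).toMonoidHom = K₁ ∨ K.map (MulAut.conj g).toMonoidHom = K₂ ∨
        K.map (MulAut.conj g).toMonoidHom = K₃ := by
  obtain ⟨φ, hφ⟩ := exists_hom_four hF
  obtain ⟨ψ, hψ⟩ := exists_hom_nine (hF9.trans (by norm_num))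
  refine ⟨Kk hF φ hφ 0, Kk hF φ hφ 1, Kk hF φ hφ 2, ?_,
    Kk_not_conj hF φ hφ hF9 ψ hψ (by norm_num) (by norm_num) (by norm_num),
    Kk_not_conj hF φ hφ hF9 ψ hψ (by norm_num) (by norm_num) (by norm_num),
    Kk_not_conj hF φ hφ hF9 ψ hψ (by norm_num) (by norm_num) (by norm_num), fun K hc he => ?_⟩
  · intro K hK
    simp only [List.mem_cons, List.not_mem_nil, or_false] at hK
    rcases hK with rfl | rfl | rfl <;> exact Kk_center_quotient hF φ hφ hF9 ψ hψ _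
  · obtain ⟨e⟩ := he
    have hk : (e.toMonoidHom.comp (QuotientGroup.mk' (Subgroup.center ↥K))).ker = Subgroup.center ↥K := by
      ext x
      simp [MonoidHom.mem_ker]
    obtain ⟨g, k, hk3, hg⟩ := classify hF φ hφ hF9 ψ hψ _
      (e.surjective.comp (QuotientGroup.mk'_surjective _)) (by rw [hk]; exact hc) hk.le
    refine ⟨g, ?_⟩
    interval_cases k
    · exact Or.inl hg
    · exact Or.inr (Or.inl hg)
    · exact Or.inr (Or.inr hg)

end Cfsg.Agent.SUSixUFour
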