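import Cfsg.Agent.Lib.SUSixUFour.Local

/-!
# Every 3.U4(3) in SU(6,2) is conjugate to one of the three

* `pre`, `card_pre` : preimages under a map onto PSU(4,3)
* `exists_model` : the model map
* `commute_pre` : preimages of the diagonal are abelian
* `classify` : conjugacy to one of the three
-/

set_option autoImplicit false
set_option maxRecDepth 100000

open scoped Matrix

namespace Cfsg.Agent.SUSixUFour

open StabCert Cert Cfsg.Agent.Unitary Cfsg.Agent.U62Cover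

theorem even_swapper : ∀ i : Fin 5, ∀ j : Fin 5, i = j ∨ ∃ n < 360,
    wperm (permWords.getD n []) 0 = 0 ∧ wperm (permWords.getD n []) i.succ = j.succ ∧
      wperm (permWords.getD n []) j.succ = i.succ := by
  decide +kernel

variable {F : Type} [Field F] [Fintype F]

/-- The preimage as a subgroup of SU(6,2). -/
def pre {P : Type*} [Group P] {K : Subgroup (S6 F)} (f : K →* P) (X : Subgroup P) : Subgroup (S6 F) :=
  (X.comap f).map K.subtype

theorem mem_pre {P : Type*} [Group P] {K : Subgroup (S6 F)} {f : K →* P} {X : Subgroup P} {x : S6 F} :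
    x ∈ pre f X ↔ ∃ h : x ∈ K, f ⟨x, h⟩ ∈ X := by
  rw [pre, Subgroup.mem_map]
  constructor
  · rintro ⟨y, hy, rfl⟩; exact ⟨y.2, hy⟩
  · rintro ⟨h, hx⟩; exact ⟨⟨x, h⟩, hx, rfl⟩

theorem card_pre {P : Type*} [Group P] {K : Subgroup (S6 F)} {f : K →* P} (hs : Function.Surjective f)
    {n : ℕ} (hk : Nat.card f.ker = n) (X : Subgroup P) : Nat.card (pre f X) = n * Nat.card X := by
  haveI := finite_S6 (F := F)
  rw [pre, natCard_map_subtype]
  let g : X.comap f →* X := f.subgroupComap X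
  have hg : Function.Surjective g := fun p => by
    obtain ⟨x, hx⟩ := hs p.1
    exact ⟨⟨x, show f x ∈ X from hx ▸ p.2⟩, Subtype.ext hx⟩
  have hgk : Nat.card g.ker = n := by
    rw [← hk]
    exact Nat.card_congr ⟨fun x => ⟨x.1.1, congrArg Subtype.val (x.2 : g x.1 = 1)⟩,
      fun x => ⟨⟨x.1, show f x.1 ∈ X by rw [show f x.1 = 1 from x.2]; exact one_mem _⟩, Subtype.ext x.2⟩,
      fun _ => rfl, fun _ => rfl⟩
  rw [← Subgroup.card_mul_index g.ker, hgk, Subgroup.index_ker, MonoidHom.range_eq_top.2 hg,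
    Subgroup.card_top]

theorem map_conj_mk {P : Type*} [Group P] {K : Subgroup (S6 F)} (f : K →* P) {p z : S6 F}
    (hp : p ∈ K) (hz : z ∈ K) (h : p * z * p⁻¹ ∈ K) :
    f ⟨p * z * p⁻¹, h⟩ = f ⟨p, hp⟩ * f ⟨z, hz⟩ * (f ⟨p, hp⟩)⁻¹ := by
  rw [← map_inv, ← map_mul, ← map_mul]
  rfl

variable (hF : Fintype.card F = 4)
include hF

theorem eq_Mv_of {X : Subgroup (S6 F)} (hM : X ≤ Mn F) (hD : Dg F ≤ X) (hc : Nat.card X = 87480) :
    X = Mv F := by
  classical
  haveI := finite_S6 (F := F)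
  set R : Subgroup (Equiv.Perm (Fin 6)) := (X.comap (Mn F).subtype).map (ph F) with hR
  have hlift : lift R = X := by
    ext g
    constructor
    · intro hg
      obtain ⟨p, hp, h⟩ := mem_lift.1 hg
      have hgM : g ∈ Mn F := ⟨p, h⟩
      obtain ⟨x, hx, hxp⟩ := Subgroup.mem_map.1 hp
      have hker : ph F (x⁻¹ * ⟨g, hgM⟩) = 1 := by
        rw [map_mul, map_inv, hxp, ph_eq hgM h, inv_mul_cancel]
      have hd : (x : S6 F)⁻¹ * g ∈ Dg F :=
        mem_lift.2 ⟨1, one_mem _, fun i j hij => ph_spec (x⁻¹ * ⟨g, hgM⟩) i j (by rw [hker]; exact hij)⟩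
      have := mul_mem (Subgroup.mem_comap.1 hx) (hD hd)
      rwa [Subgroup.coe_subtype, mul_inv_cancel_left] at this
    · intro hg
      exact mem_lift.2 ⟨ph F ⟨g, hM hg⟩, Subgroup.mem_map.2 ⟨⟨g, hM hg⟩, hg, rfl⟩, ph_spec _⟩
  have h := card_lift hF R
  rw [hlift, hc] at h
  have hindex : R.index = 2 := by
    have := Subgroup.card_mul_index R
    rw [show Nat.card R = 360 by omega, Nat.card_perm, Nat.card_fin] at this
    simp [Nat.factorial] at this
    omega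
  rw [← hlift, Equiv.Perm.eq_alternatingGroup_of_index_eq_two hindex]
  rfl

variable (φ : M4 →+* F) (hφ : ∀ z, φ (star z) = φ z ^ 2)
variable {F9 : Type} [Field F9] [Fintype F9] (hF9 : Fintype.card F9 = 3 ^ 2) (ψ : M9 →+* F9)
  (hψ : ∀ z, ψ (star z) = ψ z ^ 3)
include hF9 hψ

/-- The model map, with preimages of images of the basic subgroups. -/
theorem exists_model : ∃ f1 : K1 hF φ hφ →* Cfsg.PSU 4 F9 3, Function.Surjective f1 ∧
    Nat.card f1.ker = 3 ∧ (∀ Y : Subgroup (S6 F), Z6 F ≤ Y → Y ≤ K1 hF φ hφ →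
      pre f1 ((Y.subgroupOf (K1 hF φ hφ)).map f1) = Y ∧
      3 * Nat.card ↥((Y.subgroupOf (K1 hF φ hφ)).map f1) = Nat.card Y) := by
  haveI := finite_S6 (F := F)
  obtain ⟨-, f1, hs, hk⟩ := exists_hom_PSU hF φ hφ hF9 ψ hψ
  have hZK : Z6 F ≤ K1 hF φ hφ := fun z hz => Dg_le_K1 hF φ hφ hz.1
  have hker : f1.ker = (Z6 F).subgroupOf (K1 hF φ hφ) := by
    ext x
    exact hk x
  have h3 : Nat.card f1.ker = 3 := by
    rw [hker, Nat.card_congr (Subgroup.subgroupOfEquivOfLe hZK).toEquiv, card_Z6 hF]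
  refine ⟨f1, hs, h3, fun Y hZY hYK => ?_⟩
  have e : pre f1 ((Y.subgroupOf (K1 hF φ hφ)).map f1) = Y := by
    rw [pre, Subgroup.comap_map_eq, hker, ← Subgroup.subgroupOf_sup hYK hZK, sup_eq_left.2 hZY,
      Subgroup.subgroupOf_map_subtype, inf_eq_left.2 hYK]
  exact ⟨e, by rw [← card_pre hs h3, e]⟩

/-- Preimages of the diagonal are abelian. -/
theorem commute_pre {K : Subgroup (S6 F)} (f : K →* Cfsg.PSU 4 F9 3) (hs : Function.Surjective f)
    (hk3 : Nat.card f.ker = 3) (hkc : f.ker ≤ Subgroup.center K)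
    (f1 : K1 hF φ hφ →* Cfsg.PSU 4 F9 3) :
    ∀ a ∈ pre f (((Dg F).subgroupOf (K1 hF φ hφ)).map f1),
      ∀ b ∈ pre f (((Dg F).subgroupOf (K1 hF φ hφ)).map f1), a * b = b * a := by
  classical
  haveI := finite_S6 (F := F)
  haveI : Fact (Nat.Prime 3) := ⟨Nat.prime_three⟩
  have hdD : ∀ k : Fin 5, g6el hF φ hφ k.val ∈ Dg F := fun k => (g6el_diag hF φ hφ k.isLt).1
  let d : Fin 5 → K1 hF φ hφ := fun k => ⟨_, Dg_le_K1 hF φ hφ (hdD k)⟩
  choose A hA using fun k => hs (f1 (d k))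
  have hsw : ∀ i j : Fin 5, A i * A j = A j * A i := by
    intro i j
    rcases eq_or_ne i j with rfl | hij
    · rfl
    obtain ⟨n, hn, p0, pi, pj⟩ := (even_swapper i j).resolve_left hij
    set p := wperm (permWords.getD n [])
    have hp : Equiv.Perm.sign p = 1 := beq_iff_eq.1 (List.all_eq_true.1 permWords_ok.2.2 n (List.mem_range.2 hn))
    have hmM : pEl hF p ∈ Mv F := mem_lift.2 ⟨p, hp, mon_pEl hF p⟩
    let m : K1 hF φ hφ := ⟨_, Mv_le_K1 hF φ hφ hF9 ψ hψ hmM⟩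
    have conj : ∀ (a b : Fin 5), p a.succ = b.succ → m * d a * m⁻¹ = d b := by
      intro a b hab
      refine Subtype.ext ?_
      show pEl hF p * g6el hF φ hφ a.val * (pEl hF p)⁻¹ = g6el hF φ hφ b.val
      have hD2 : pEl hF p * g6el hF φ hφ a.val * (pEl hF p)⁻¹ ∈ Dg F :=
        Dg_normal ⟨p, mon_pEl hF p⟩ (hdD a)
      refine Dg_ext hD2 (hdD b) fun x => ?_
      obtain ⟨y, rfl⟩ := p.surjective x
      rw [ent_conj_Dg (mon_pEl hF p) (hdD a), (g6el_diag hF φ hφ a.isLt).2, (g6el_diag hF φ hφ b.isLt).2]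
      have h0 : y.val = 0 ↔ (p y).val = 0 := by
        constructor
        · intro h; rw [show y = 0 from Fin.ext h, p0]; rfl
        · intro h
          have : p y = p 0 := by rw [p0]; exact Fin.ext h
          rw [p.injective this]; rfl
      have h1 : y.val = a.val + 1 ↔ (p y).val = b.val + 1 := by
        constructor
        · intro h; rw [show y = a.succ from Fin.ext (by simp [h]), hab]; simp
        · intro h
          have : p y = p a.succ := by rw [hab]; exact Fin.ext (by simp [h])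
          rw [p.injective this]; simp
      simp only [h0, h1]
    obtain ⟨H, hH⟩ := hs (f1 m)
    have hcd : ∀ u v : Fin 5, m * d u * m⁻¹ = d v → ∃ z ∈ f.ker, H * A u * H⁻¹ = A v * z := by
      intro u v e
      refine ⟨(A v)⁻¹ * (H * A u * H⁻¹), ?_, by group⟩
      rw [MonoidHom.mem_ker, map_mul, map_mul, map_mul, map_inv, map_inv, hH, hA, hA, ← map_inv f1 m,
        ← map_mul, ← map_mul, e, inv_mul_cancel]
    obtain ⟨z, hz, e1⟩ := hcd i j (conj i j pi)
    obtain ⟨z', hz', e2⟩ := hcd j i (conj j i pj)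
    have hzc := Subgroup.mem_center_iff.1 (hkc hz)
    have hzc' := Subgroup.mem_center_iff.1 (hkc hz')
    set c := A i * A j * (A i)⁻¹ * (A j)⁻¹ with hc
    have hck : c ∈ f.ker := by
      have hcomm : d i * d j = d j * d i := by
        refine Subtype.ext ?_
        show g6el hF φ hφ i.val * g6el hF φ hφ j.val = g6el hF φ hφ j.val * g6el hF φ hφ i.val
        refine Dg_ext (mul_mem (hdD i) (hdD j)) (mul_mem (hdD j) (hdD i)) fun x => ?_
        rw [ent_mul_mon (r := 1) (fun u v h => mem_Dg.1 (hdD j) u v h) x x,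
          ent_mul_mon (r := 1) (fun u v h => mem_Dg.1 (hdD i) u v h) x x, Equiv.Perm.one_apply, mul_comm]
      rw [MonoidHom.mem_ker, hc, map_mul, map_mul, map_mul, map_inv, map_inv, hA, hA, ← map_mul,
        hcomm, map_mul]
      group
    have hH' : H * c * H⁻¹ = c := by
      rw [Subgroup.mem_center_iff.1 (hkc hck) H]
      group
    have hH'' : H * c * H⁻¹ = c⁻¹ := by
      have : H * c * H⁻¹ =
          (H * A i * H⁻¹) * (H * A j * H⁻¹) * (H * A i * H⁻¹)⁻¹ * (H * A j * H⁻¹)⁻¹ := by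
        rw [hc]; group
      rw [this, e1, e2, hc]
      have c1 : ∀ g, g * z = z * g := hzc
      have c2 : ∀ g, g * z' = z' * g := hzc'
      simp only [mul_inv_rev, inv_inv]
      calc A j * z * (A i * z') * (z⁻¹ * (A j)⁻¹) * (z'⁻¹ * (A i)⁻¹)
          = A j * (z * A i) * z' * z⁻¹ * ((A j)⁻¹ * z'⁻¹) * (A i)⁻¹ := by group
        _ = A j * (A i * z) * z' * z⁻¹ * (z'⁻¹ * (A j)⁻¹) * (A i)⁻¹ := by
            rw [c1 (A i), show (A j)⁻¹ * z'⁻¹ = z'⁻¹ * (A j)⁻¹ by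
              rw [← mul_inv_rev, ← mul_inv_rev, c2]]
        _ = A j * A i * (z * z' * z⁻¹ * z'⁻¹) * (A j)⁻¹ * (A i)⁻¹ := by group
        _ = A j * (A i * ((A j)⁻¹ * (A i)⁻¹)) := by
            rw [c2 z, mul_inv_cancel_right, mul_inv_cancel, mul_one]; simp only [mul_assoc]
    have h2 : c * c = 1 := by
      have := hH'.symm.trans hH''
      nth_rewrite 2 [this]
      exact mul_inv_cancel c
    have h3 : c ^ 3 = 1 := by
      have h := pow_card_eq_one' (x := (⟨c, hck⟩ : f.ker))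
      rw [hk3] at h
      simpa using congrArg Subtype.val h
    have hc1 : c = 1 := by
      have : c ^ 3 = c := by rw [pow_succ, pow_two, h2, one_mul]
      exact this.symm.trans h3
    rw [hc, mul_inv_eq_one, mul_inv_eq_iff_eq_mul] at hc1
    exact hc1
  intro a ha b hb
  obtain ⟨haK, hfa⟩ := mem_pre.1 ha
  obtain ⟨hbK, hfb⟩ := mem_pre.1 hb
  let C : Subgroup K := Subgroup.closure (Set.range A ∪ (f.ker : Set K))
  have hC : ∀ u : K, f u ∈ ((Dg F).subgroupOf (K1 hF φ hφ)).map f1 → u ∈ C := by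
    intro u hu
    obtain ⟨y, hy, e⟩ := Subgroup.mem_map.1 hu
    have hy' : (y : S6 F) ∈ sub (g6el hF φ hφ) (List.range 5) := Dg_le_sub hF φ hφ hy
    have hle : sub (g6el hF φ hφ) (List.range 5) ≤ ((C.map f).comap f1).map (K1 hF φ hφ).subtype := by
      rw [sub, Subgroup.closure_le]
      rintro _ ⟨k, hk, rfl⟩
      have hk5 : k < 5 := List.mem_range.1 hk
      exact Subgroup.mem_map.2 ⟨d ⟨k, hk5⟩, Subgroup.mem_comap.2 (Subgroup.mem_map.2
        ⟨A ⟨k, hk5⟩, Subgroup.subset_closure (Or.inl ⟨_, rfl⟩), hA _⟩), rfl⟩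
    obtain ⟨y', hy'', ey⟩ := Subgroup.mem_map.1 (hle hy')
    obtain rfl : y' = y := Subtype.ext ey
    obtain ⟨w, hw, ew⟩ := Subgroup.mem_map.1 (Subgroup.mem_comap.1 hy'')
    have hker : w⁻¹ * u ∈ f.ker := by
      rw [MonoidHom.mem_ker, map_mul, map_inv, ew, e, inv_mul_cancel]
    have := mul_mem hw (Subgroup.subset_closure (k := Set.range A ∪ (f.ker : Set K)) (Or.inr hker))
    rwa [mul_inv_cancel_left] at this
  have hcomm : ∀ u ∈ Set.range A ∪ (f.ker : Set K), ∀ v ∈ Set.range A ∪ (f.ker : Set K), u * v = v * u := by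
    rintro u (⟨i, rfl⟩ | hu) v (⟨j, rfl⟩ | hv)
    · exact hsw i j
    · exact Subgroup.mem_center_iff.1 (hkc hv) _
    · exact (Subgroup.mem_center_iff.1 (hkc hu) _).symm
    · exact Subgroup.mem_center_iff.1 (hkc hv) _
  haveI := Subgroup.isMulCommutative_closure hcomm
  have := (inferInstance : IsMulCommutative C).is_comm.comm ⟨_, hC _ hfa⟩ ⟨_, hC _ hfb⟩
  exact congrArg (fun t : C => ((t : K) : S6 F)) this

/-- Classification after normalisation. -/
theorem classify_aligned {K : Subgroup (S6 F)} (f : K →* Cfsg.PSU 4 F9 3) (hs : Function.Surjective f)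
    (hker : ∀ x : K, f x = 1 ↔ (x : S6 F) ∈ Z6 F) (hk3 : Nat.card f.ker = 3)
    (f1 : K1 hF φ hφ →* Cfsg.PSU 4 F9 3) (hs1 : Function.Surjective f1) (hk1 : Nat.card f1.ker = 3)
    (hpre : ∀ Y : Subgroup (S6 F), Z6 F ≤ Y → Y ≤ K1 hF φ hφ →
      pre f1 ((Y.subgroupOf (K1 hF φ hφ)).map f1) = Y ∧
      3 * Nat.card ↥((Y.subgroupOf (K1 hF φ hφ)).map f1) = Nat.card Y)
    (hD : pre f (((Dg F).subgroupOf (K1 hF φ hφ)).map f1) = Dg F)
    (hM : pre f (((Mv F).subgroupOf (K1 hF φ hφ)).map f1) = Mv F)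
    (hS : pre f (((Sy F).subgroupOf (K1 hF φ hφ)).map f1) = Sy F) :
    ∃ k < 3, K = Kk hF φ hφ k := by
  haveI := finite_S6 (F := F)
  have hMK : Mv F ≤ K := fun x hx => by
    rw [← hM] at hx; exact (mem_pre.1 hx).1
  have hMK1 := Mv_le_K1 hF φ hφ hF9 ψ hψ
  have hZ6Z0 : Z6 F ≤ Z0 F := fun z hz => by
    have hs := (scalar_of_center hF hz.2).2
    exact ⟨hz.1, hs 1, hs 2, (hs 4).trans (hs 3).symm, (hs 5).trans (hs 3).symm⟩
  have hZ0K1 : Z0 F ≤ K1 hF φ hφ := fun z hz => Dg_le_K1 hF φ hφ hz.1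
  obtain ⟨hp0, hc0⟩ := hpre _ hZ6Z0 hZ0K1
  set Zb := ((Z0 F).subgroupOf (K1 hF φ hφ)).map f1 with hZb
  have hZle : pre f Zb ≤ Z0 F := by
    intro x hx
    obtain ⟨hxK, hfx⟩ := mem_pre.1 hx
    obtain ⟨z, hz, ez⟩ := Subgroup.mem_map.1 hfx
    have hxD : x ∈ Dg F := by
      rw [← hD]
      exact mem_pre.2 ⟨hxK, ez ▸ Subgroup.mem_map_of_mem f1 (show z ∈ (Dg F).subgroupOf _ from hz.1)⟩
    have key : ∀ p ∈ l9, ∀ i, p i = i → ∀ j, ent x (p j) (p j) = ent x j j := by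
      intro p hp i hpi j
      have hpS : pEl hF p ∈ Sy F := mem_lift.2 ⟨p, hp, mon_pEl hF p⟩
      have hpK : pEl hF p ∈ K := hMK (Sy_le_Mv hpS)
      have hs' : pEl hF p ∈ pre f (((Sy F).subgroupOf (K1 hF φ hφ)).map f1) := by rw [hS]; exact hpS
      obtain ⟨_, hfp⟩ := mem_pre.1 hs'
      obtain ⟨s, hsS, es⟩ := Subgroup.mem_map.1 hfp
      have hsz : s * z = z * s := by
        refine Subtype.ext ?_
        show (s : S6 F) * z = z * s
        obtain ⟨r, hr, hr'⟩ := mem_lift.1 (show (s : S6 F) ∈ Sy F from hsS)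
        have hz' : (z : S6 F) ∈ Z0 F := hz
        have hpres : ∀ r ∈ l9, ∀ a : Fin 6, (decide ((r a).val < 3) == decide (a.val < 3)) = true := by
          decide +kernel
        suffices h : (s : S6 F) * z * (s : S6 F)⁻¹ = z by
          rwa [mul_inv_eq_iff_eq_mul] at h
        refine Dg_ext (Dg_normal ⟨r, hr'⟩ hz'.1) hz'.1 fun a => ?_
        obtain ⟨b, rfl⟩ := r.surjective a
        rw [ent_conj_Dg hr' hz'.1]
        have := hpres r hr b
        exact Z0_const hz' b (r b) (by simpa [iff_comm] using this)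
      have hcz : pEl hF p * x * (pEl hF p)⁻¹ * x⁻¹ ∈ Z6 F := by
        refine (hker ⟨_, mul_mem (mul_mem (mul_mem hpK hxK) (inv_mem hpK)) (inv_mem hxK)⟩).1 ?_
        show f (⟨_, hpK⟩ * ⟨x, hxK⟩ * (⟨_, hpK⟩)⁻¹ * (⟨x, hxK⟩)⁻¹) = 1
        rw [map_mul, map_mul, map_mul, map_inv, map_inv, ← es, ← ez, ← map_mul, hsz, map_mul]
        group
      obtain ⟨-, hconst⟩ := scalar_of_center hF hcz.2
      have hcon := Dg_normal (g := pEl hF p) ⟨p, mon_pEl hF p⟩ hxD
      have e : ∀ a, ent (pEl hF p * x * (pEl hF p)⁻¹) a a =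
          ent (pEl hF p * x * (pEl hF p)⁻¹ * x⁻¹) 0 0 * ent x a a := by
        intro a
        have he := ent_mul_mon (g := pEl hF p * x * (pEl hF p)⁻¹ * x⁻¹) (h := x) (r := 1)
          (fun u v h => mem_Dg.1 hxD u v h) a a
        rw [inv_mul_cancel_right, Equiv.Perm.one_apply, hconst a] at he
        exact he
      have e1 := e i
      have hh := ent_conj_Dg (mon_pEl hF p) hxD i
      rw [hpi] at hh
      rw [hh] at e1
      have hc1 : ent (pEl hF p * x * (pEl hF p)⁻¹ * x⁻¹) 0 0 = 1 :=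
        (mul_right_cancel₀ (Dg_ne hxD i) (by rw [one_mul]; exact e1)).symm
      have e2 := e (p j)
      rw [ent_conj_Dg (mon_pEl hF p) hxD, hc1, one_mul] at e2
      exact e2.symm
    have hA : cA ∈ l9 := by decide +kernel
    have hB : cB ∈ l9 := by decide +kernel
    have a0 := key cA hA 3 (by decide) 0
    have a1 := key cA hA 3 (by decide) 1
    have b3 := key cB hB 0 (by decide) 3
    have b4 := key cB hB 0 (by decide) 4
    rw [show cA 0 = 1 from rfl] at a0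
    rw [show cA 1 = 2 from rfl] at a1
    rw [show cB 3 = 4 from rfl] at b3
    rw [show cB 4 = 5 from rfl] at b4
    exact ⟨hxD, a0, a1.trans a0, b3, b4.trans b3⟩
  have hZeq : pre f Zb = Z0 F :=
    Subgroup.eq_of_le_of_card_ge hZle (by rw [card_pre hs hk3, hc0])
  set Xb := ((K1 hF φ hφ ⊓ B0 F).subgroupOf (K1 hF φ hφ)).map f1 with hXb
  have hZ6X : Z6 F ≤ K1 hF φ hφ ⊓ B0 F :=
    le_inf (fun z hz => Dg_le_K1 hF φ hφ hz.1) fun z hz => mem_B0_of fun y hy => by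
      rw [← Subgroup.mem_center_iff.1 hz.2 y, mul_inv_cancel_right]; exact hy
  obtain ⟨-, hcX⟩ := hpre _ hZ6X inf_le_left
  have hcard : Nat.card (pre f Xb) = 34992 := by
    rw [card_pre hs hk3, hcX, card_X1 hF φ hφ hF9 ψ hψ]
  have hPB : pre f Xb ≤ B0 F := by
    intro p hp
    obtain ⟨hpK, hfp⟩ := mem_pre.1 hp
    refine mem_B0_of fun z hz => ?_
    rw [← hZeq] at hz ⊢
    obtain ⟨hzK, hfz⟩ := mem_pre.1 hz
    refine mem_pre.2 ⟨mul_mem (mul_mem hpK hzK) (inv_mem hpK), ?_⟩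
    rw [map_conj_mk f hpK hzK]
    obtain ⟨x, hx, ex⟩ := Subgroup.mem_map.1 hfp
    obtain ⟨y, hy, ey⟩ := Subgroup.mem_map.1 hfz
    rw [← ex, ← ey, ← map_inv, ← map_mul, ← map_mul]
    exact Subgroup.mem_map_of_mem f1 ((Subgroup.mem_normalizer_iff.1 hx.2 _).1 hy)
  have hM0 : Mv F ⊓ B0 F ≤ pre f Xb := by
    intro m hm
    have hmp : m ∈ pre f (((Mv F).subgroupOf (K1 hF φ hφ)).map f1) := by rw [hM]; exact hm.1
    obtain ⟨hmK, hfm⟩ := mem_pre.1 hmp
    obtain ⟨m1, hm1, em⟩ := Subgroup.mem_map.1 hfm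
    suffices hb : (m1 : S6 F) ∈ B0 F by
      refine mem_pre.2 ⟨hmK, ?_⟩
      rw [← em]
      exact Subgroup.mem_map_of_mem f1 (Subgroup.mem_subgroupOf.2 ⟨m1.2, hb⟩)
    refine mem_B0_of fun z hz => ?_
    have hz' : z ∈ pre f Zb := by rw [hZeq]; exact hz
    -- transport along the two maps
    rw [← hp0] at hz ⊢
    obtain ⟨hzK, hfz⟩ := mem_pre.1 hz
    refine mem_pre.2 ⟨mul_mem (mul_mem m1.2 hzK) (inv_mem m1.2), ?_⟩
    rw [map_conj_mk f1 m1.2 hzK, show f1 ⟨(m1 : S6 F), m1.2⟩ = f ⟨m, hmK⟩ from em]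
    obtain ⟨w, hw⟩ := hs (f1 ⟨z, hzK⟩)
    have hwZ : (w : S6 F) ∈ Z0 F := by
      rw [← hZeq]; exact mem_pre.2 ⟨w.2, by rw [show f ⟨w.1, w.2⟩ = f w from rfl, hw]; exact hfz⟩
    have hconj : m * (w : S6 F) * m⁻¹ ∈ pre f Zb := by
      rw [hZeq]; exact (Subgroup.mem_normalizer_iff.1 hm.2 _).1 hwZ
    obtain ⟨hK', hin⟩ := mem_pre.1 hconj
    rw [map_conj_mk f hmK w.2, Subtype.coe_eta, hw] at hin
    exact hin
  obtain ⟨k, hk, hq⟩ := exists_qk_mem hF φ hφ hM0 hPB hcard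
  refine ⟨k, hk, (Subgroup.eq_of_le_of_card_ge ?_ ?_).symm⟩
  · rw [← Kk_eq_sup hF φ hφ hF9 ψ hψ]
    exact sup_le hMK (Subgroup.zpowers_le.2 ((mem_pre.1 hq).1))
  · have hc := Subgroup.card_mul_index f.ker
    rw [Subgroup.index_ker, MonoidHom.range_eq_top.2 hs, Subgroup.card_top, hk3] at hc
    have hc1 := Subgroup.card_mul_index f1.ker
    rw [Subgroup.index_ker, MonoidHom.range_eq_top.2 hs1, Subgroup.card_top, hk1] at hc1
    rw [card_Kk hF φ hφ hF9 ψ hψ, ← hc, hc1, (exists_hom_PSU hF φ hφ hF9 ψ hψ).1]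

omit hF hF9 hψ in
theorem pre_conj {P : Type*} [Group P] {K : Subgroup (S6 F)} (f : K →* P) (g : S6 F) :
    ∃ f' : (K.map (MulAut.conj g).toMonoidHom : Subgroup (S6 F)) →* P,
      (Function.Surjective f → Function.Surjective f') ∧ (f.ker ≤ Subgroup.center K → f'.ker ≤
        Subgroup.center ↥(K.map (MulAut.conj g).toMonoidHom)) ∧ Nat.card f'.ker = Nat.card f.ker ∧
      ∀ X, pre f' X = (pre f X).map (MulAut.conj g).toMonoidHom := by
  let e := K.equivMapOfInjective (MulAut.conj g).toMonoidHom (MulAut.conj g).injective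
  refine ⟨f.comp e.symm.toMonoidHom, fun h => h.comp e.symm.surjective, fun h x hx => ?_, ?_, fun X => ?_⟩
  · refine Subgroup.mem_center_iff.2 fun y => e.symm.injective ?_
    rw [map_mul, map_mul]
    exact Subgroup.mem_center_iff.1 (h hx) _
  · exact Nat.card_congr ⟨fun x => ⟨e.symm x.1, x.2⟩, fun x => ⟨e x.1, by
      show f (e.symm (e x.1)) = 1
      rw [e.symm_apply_apply]; exact x.2⟩, fun x => Subtype.ext (e.apply_symm_apply _),
      fun x => Subtype.ext (e.symm_apply_apply _)⟩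
  · ext x
    constructor
    · intro hh
      obtain ⟨h, hx⟩ := mem_pre.1 hh
      refine Subgroup.mem_map.2 ⟨(e.symm ⟨x, h⟩ : K), mem_pre.2 ⟨(e.symm ⟨x, h⟩).2, hx⟩, ?_⟩
      exact congrArg Subtype.val (e.apply_symm_apply ⟨x, h⟩)
    · intro hh
      obtain ⟨y, hy, rfl⟩ := Subgroup.mem_map.1 hh
      obtain ⟨hyK, hy'⟩ := mem_pre.1 hy
      refine mem_pre.2 ⟨Subgroup.mem_map_of_mem _ hyK, ?_⟩
      show f (e.symm _) ∈ X
      rw [show (⟨(MulAut.conj g).toMonoidHom y, Subgroup.mem_map_of_mem _ hyK⟩ :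
        ↥(K.map (MulAut.conj g).toMonoidHom)) = e ⟨y, hyK⟩ from Subtype.ext rfl, e.symm_apply_apply]
      exact hy'

/-- The classification. -/
theorem classify {K : Subgroup (S6 F)} (f : K →* Cfsg.PSU 4 F9 3) (hs : Function.Surjective f)
    (hk3 : Nat.card f.ker = 3) (hkc : f.ker ≤ Subgroup.center K) :
    ∃ g : S6 F, ∃ k < 3, K.map (MulAut.conj g).toMonoidHom = Kk hF φ hφ k := by
  haveI := finite_S6 (F := F)
  haveI : Fact (Nat.Prime 3) := ⟨Nat.prime_three⟩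
  obtain ⟨f1, hs1, hk1, hpre⟩ := exists_model hF φ hφ hF9 ψ hψ
  have hZD : Z6 F ≤ Dg F := inf_le_left
  obtain ⟨hpD, hcD⟩ := hpre _ hZD (Dg_le_K1 hF φ hφ)
  set E := pre f (((Dg F).subgroupOf (K1 hF φ hφ)).map f1) with hE
  have hEc : Nat.card E = 243 := by rw [hE, card_pre hs hk3, hcD, card_Dg hF]
  have h38 : ¬ 3 ^ 8 ∣ Nat.card (⊤ : Subgroup (S6 F)) := by
    rw [Subgroup.card_top, card_S6 hF]; norm_num
  obtain ⟨g, -, hg⟩ := exists_conj_Dg hF ⊤ E le_top h38 le_top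
    (commute_pre hF φ hφ hF9 ψ hψ f hs hk3 hkc f1) hEc
  obtain ⟨f', hs', hkc', hk3', hpre'⟩ := pre_conj f g
  specialize hs' hs
  specialize hkc' hkc
  rw [hk3] at hk3'
  have hD : pre f' (((Dg F).subgroupOf (K1 hF φ hφ)).map f1) = Dg F := by rw [hpre', ← hE, hg]
  have hDM : Dg F ≤ Mv F := Dg_le_lift _
  obtain ⟨hpM, hcM⟩ := hpre _ (hZD.trans hDM) (Mv_le_K1 hF φ hφ hF9 ψ hψ)
  set Mb := ((Mv F).subgroupOf (K1 hF φ hφ)).map f1 with hMb
  have hM : pre f' Mb = Mv F := by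
    refine eq_Mv_of hF (fun x hx => mon_of_normalizes hF fun d hd => ?_) (fun d hd => ?_)
      (by rw [card_pre hs' hk3', hcM, card_Mv hF])
    · rw [← hD] at hd ⊢
      obtain ⟨hxK, hfx⟩ := mem_pre.1 hx
      obtain ⟨hdK, hfd⟩ := mem_pre.1 hd
      refine mem_pre.2 ⟨mul_mem (mul_mem hxK hdK) (inv_mem hxK), ?_⟩
      rw [map_conj_mk f' hxK hdK]
      obtain ⟨u, hu, eu⟩ := Subgroup.mem_map.1 hfx
      obtain ⟨v, hv, ev⟩ := Subgroup.mem_map.1 hfd
      rw [← eu, ← ev, ← map_inv, ← map_mul, ← map_mul]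
      exact Subgroup.mem_map_of_mem f1 (Dg_normal (lift_le_Mn _ hu) hv)
    · rw [← hD] at hd
      obtain ⟨hdK, hfd⟩ := mem_pre.1 hd
      refine mem_pre.2 ⟨hdK, ?_⟩
      exact Subgroup.map_mono (show (Dg F).subgroupOf (K1 hF φ hφ) ≤ (Mv F).subgroupOf _ from fun y hy => hDM hy) hfd
  -- align the Sylow subgroup
  have hZS : Z6 F ≤ Sy F := hZD.trans (Dg_le_lift _)
  have hSK : Sy F ≤ K1 hF φ hφ := Sy_le_Mv.trans (Mv_le_K1 hF φ hφ hF9 ψ hψ)
  obtain ⟨hpS, hcS⟩ := hpre _ hZS hSK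
  set W := pre f' (((Sy F).subgroupOf (K1 hF φ hφ)).map f1) with hW
  have hWc : Nat.card W = 3 ^ 7 := by rw [hW, card_pre hs' hk3', hcS, card_Sy hF]
  have hWM : W ≤ Mv F := by
    intro x hx
    rw [← hM]
    obtain ⟨hxK, hfx⟩ := mem_pre.1 hx
    exact mem_pre.2 ⟨hxK, Subgroup.map_mono (show (Sy F).subgroupOf (K1 hF φ hφ) ≤ (Mv F).subgroupOf _ from fun y hy => Sy_le_Mv hy) hfx⟩
  have hW3 : IsPGroup 3 (W.subgroupOf (Mv F)) :=
    IsPGroup.of_card (n := 7) (by rw [Nat.card_congr (Subgroup.subgroupOfEquivOfLe hWM).toEquiv, hWc])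
  have hS3 : IsPGroup 3 ((Sy F).subgroupOf (Mv F)) :=
    IsPGroup.of_card (n := 7) (by
      rw [Nat.card_congr (Subgroup.subgroupOfEquivOfLe Sy_le_Mv).toEquiv, card_Sy hF])
  have hfac : ∀ X : Subgroup (Mv F), Nat.card X = 3 ^ 7 → ∀ Q : Sylow 3 (Mv F), X ≤ Q → (Q : Subgroup (Mv F)) = X := by
    intro X hX Q hQ
    obtain ⟨n, hn⟩ := IsPGroup.iff_card.1 Q.2
    have hd : 3 ^ n ∣ 87480 := card_Mv hF ▸ hn ▸ Subgroup.card_subgroup_dvd_card Q.1
    have hn8 : n < 8 := by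
      by_contra h
      have := (pow_dvd_pow 3 (by omega : 8 ≤ n)).trans hd
      norm_num at this
    refine (Subgroup.eq_of_le_of_card_ge hQ ?_).symm
    rw [hX]
    exact hn.le.trans (Nat.pow_le_pow_right (by norm_num) (by omega))
  obtain ⟨QW, hQW⟩ := hW3.exists_le_sylow
  obtain ⟨QS, hQS⟩ := hS3.exists_le_sylow
  have eW := hfac _ (by rw [Nat.card_congr (Subgroup.subgroupOfEquivOfLe hWM).toEquiv, hWc]) QW hQW
  have eS := hfac _ (by rw [Nat.card_congr (Subgroup.subgroupOfEquivOfLe Sy_le_Mv).toEquiv, card_Sy hF]) QS hQS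
  obtain ⟨h, hh⟩ := MulAction.exists_smul_eq (Mv F) QW QS
  obtain ⟨f'', hs'', hkc'', hk3'', hpre''⟩ := pre_conj f' (h : S6 F)
  specialize hs'' hs'
  specialize hkc'' hkc'
  rw [hk3'] at hk3''
  have hhM : (h : S6 F) ∈ Mn F := lift_le_Mn _ h.2
  have hfix : ∀ Y : Subgroup (S6 F), (∀ y ∈ Y, (h : S6 F) * y * (h : S6 F)⁻¹ ∈ Y) →
      Y.map (MulAut.conj (h : S6 F)).toMonoidHom = Y := fun Y hY =>
    Subgroup.eq_of_le_of_card_ge (by rintro _ ⟨y, hy, rfl⟩; exact hY y hy)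
      (Subgroup.card_map_of_injective (MulAut.conj (h : S6 F)).injective).ge
  have hD'' : pre f'' (((Dg F).subgroupOf (K1 hF φ hφ)).map f1) = Dg F := by
    rw [hpre'', hD, hfix _ fun y hy => Dg_normal hhM hy]
  have hM'' : pre f'' Mb = Mv F := by
    rw [hpre'', hM, hfix _ fun y hy => Mv_normal hhM hy]
  have hS'' : pre f'' (((Sy F).subgroupOf (K1 hF φ hφ)).map f1) = Sy F := by
    rw [hpre'', ← hW]
    have := congrArg (fun Q : Sylow 3 (Mv F) => (Q : Subgroup (Mv F)).map (Mv F).subtype) hh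
    simp only [eS, Subgroup.subgroupOf_map_subtype, inf_eq_left.2 Sy_le_Mv] at this
    rw [← this, Sylow.coe_subgroup_smul, eW]
    ext x
    simp only [Subgroup.mem_map]
    constructor
    · rintro ⟨y, hy, rfl⟩
      exact ⟨h * ⟨y, hWM hy⟩ * h⁻¹, ⟨⟨y, hWM hy⟩, hy, rfl⟩, rfl⟩
    · rintro ⟨z, ⟨y, hy, rfl⟩, rfl⟩
      exact ⟨(y : S6 F), hy, rfl⟩
  have hker : ∀ x : ↥((K.map (MulAut.conj g).toMonoidHom).map (MulAut.conj (h : S6 F)).toMonoidHom),
      f'' x = 1 ↔ (x : S6 F) ∈ Z6 F := by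
    have hle : (f''.ker.map (Subgroup.subtype _)) ≤ Z6 F := by
      rintro _ ⟨z, hz, rfl⟩
      refine scalar_of_comm_Mv hF fun m hm => ?_
      have hmK := (mem_pre.1 (show m ∈ pre f'' Mb by rw [hM'']; exact hm)).1
      exact (congrArg Subtype.val (Subgroup.mem_center_iff.1 (hkc'' hz) ⟨m, hmK⟩)).symm
    have heq := Subgroup.eq_of_le_of_card_ge hle (by rw [natCard_map_subtype, hk3'', card_Z6 hF])
    intro x
    constructor
    · intro hx
      exact hle ⟨x, hx, rfl⟩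
    · intro hx
      rw [← heq] at hx
      obtain ⟨y, hy, e⟩ := Subgroup.mem_map.1 hx
      have : y = x := Subtype.ext e
      exact this ▸ hy
  obtain ⟨k, hk, e⟩ := classify_aligned hF φ hφ hF9 ψ hψ f'' hs'' hker hk3'' f1 hs1 hk1 hpre hD'' hM'' hS''
  refine ⟨(h : S6 F) * g, k, hk, ?_⟩
  rw [← e, Subgroup.map_map]
  congr 1
  ext x
  simp [mul_assoc]

end Cfsg.Agent.SUSixUFour
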