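import Cfsg.Agent.Lib.U62Cover.Field
import Cfsg.Agent.Lib.Unitary.Center

/-!
# The monomial subgroup of SU(6,2) and its diagonal 3-subgroup

* `Mn`, `ph`, `Dg`, `Mv` : monomial elements, the permutation, the diagonal and the even part
* `eq_Dg_of_le_Sy`, `exists_conj_Dg` : abelian subgroups of order 243
* `mon_of_normalizes`, `diag_of_commutes` : normaliser and centraliser of the diagonal
-/

set_option autoImplicit false

namespace Cfsg.Agent.SUSixUFour

open Cfsg.Agent.Unitary Cfsg.Agent.U62Cover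

theorem natCard_map_subtype {G : Type*} [Group G] {H : Subgroup G} (K : Subgroup H) :
    Nat.card ↥(K.map H.subtype) = Nat.card K :=
  Subgroup.card_map_of_injective H.subtype_injective

/-- Product sets inside a subgroup. -/
theorem card_mul_card_le {G : Type*} [Group G] [Finite G] {H K P : Subgroup G} (hH : H ≤ P)
    (hK : K ≤ P) : Nat.card H * Nat.card K ≤ Nat.card P * Nat.card ↥(H ⊓ K) := by
  have h0 : K.relIndex P ≠ 0 := Subgroup.index_ne_zero_of_finite
  have h2 : Nat.card ↥(H ⊓ K) * K.relIndex H = Nat.card H := by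
    rw [← Subgroup.inf_relIndex_left H K, ← Subgroup.relIndex_bot_left, ← Subgroup.relIndex_bot_left,
      Subgroup.relIndex_mul_relIndex _ _ _ bot_le inf_le_left]
  have h1 : Nat.card K * K.relIndex P = Nat.card P := by
    rw [← Subgroup.relIndex_bot_left, ← Subgroup.relIndex_bot_left,
      Subgroup.relIndex_mul_relIndex _ _ _ bot_le hK]
  calc Nat.card H * Nat.card K = Nat.card ↥(H ⊓ K) * K.relIndex H * Nat.card K := by rw [h2]
    _ ≤ Nat.card ↥(H ⊓ K) * K.relIndex P * Nat.card K := by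
      gcongr
      exact Subgroup.relIndex_le_of_le_right hH h0
    _ = Nat.card P * Nat.card ↥(H ⊓ K) := by rw [← h1]; ring

variable {F : Type} [Field F] [Fintype F]

/-- SU(6,2). -/
abbrev S6 (F : Type) [Field F] : Type := ↥(Cfsg.SU 6 F 2)

omit [Fintype F] in
/-- An entry. -/
def ent (g : S6 F) (i j : Fin 6) : F := (g.1 : Matrix (Fin 6) (Fin 6) F) i j

omit [Fintype F] in
theorem ext_ent {g h : S6 F} (e : ∀ i j, ent g i j = ent h i j) : g = h :=
  Subtype.ext (Subtype.ext (Matrix.ext e))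

omit [Fintype F] in
theorem ent_mul (g h : S6 F) (i j : Fin 6) : ent (g * h) i j = ∑ k, ent g i k * ent h k j := rfl

omit [Fintype F] in
theorem ent_one (i j : Fin 6) : ent (1 : S6 F) i j = if i = j then 1 else 0 := by
  show (1 : Matrix (Fin 6) (Fin 6) F) i j = _
  rw [Matrix.one_apply]

omit [Fintype F] in
/-- One nonzero entry in each column. -/
def Mon (g : S6 F) : Prop := ∃ p : Equiv.Perm (Fin 6), ∀ i j, i ≠ p j → ent g i j = 0

omit [Fintype F] in
theorem Mon.ne_zero {g : S6 F} {p : Equiv.Perm (Fin 6)} (h : ∀ i j, i ≠ p j → ent g i j = 0)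
    (j : Fin 6) : ent g (p j) j ≠ 0 := by
  intro e
  have hd : (g.1 : Matrix (Fin 6) (Fin 6) F).det = 0 := by
    refine Matrix.det_eq_zero_of_column_eq_zero j fun i => ?_
    by_cases hi : i = p j
    · subst hi; exact e
    · exact h i j hi
  rw [g.1.2] at hd
  exact one_ne_zero hd

omit [Fintype F] in
theorem Mon.unique {g : S6 F} {p q : Equiv.Perm (Fin 6)} (h : ∀ i j, i ≠ p j → ent g i j = 0)
    (h' : ∀ i j, i ≠ q j → ent g i j = 0) : p = q :=
  Equiv.ext fun j => by_contra fun hne => Mon.ne_zero h j (h' _ _ hne)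

omit [Fintype F] in
theorem ent_mul_mon {g h : S6 F} {r : Equiv.Perm (Fin 6)} (hh : ∀ i j, i ≠ r j → ent h i j = 0)
    (i j : Fin 6) : ent (g * h) i j = ent g i (r j) * ent h (r j) j := by
  rw [ent_mul, Finset.sum_eq_single (r j)]
  · intro k _ hk
    rw [hh k j hk, mul_zero]
  · exact fun h => absurd (Finset.mem_univ _) h

omit [Fintype F] in
theorem mon_mul {g h : S6 F} {p r : Equiv.Perm (Fin 6)} (hg : ∀ i j, i ≠ p j → ent g i j = 0)
    (hh : ∀ i j, i ≠ r j → ent h i j = 0) : ∀ i j, i ≠ (p * r) j → ent (g * h) i j = 0 := by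
  intro i j hij
  rw [ent_mul_mon hh, hg i (r j) hij, zero_mul]

omit [Fintype F] in
theorem mon_one : ∀ i j, i ≠ (1 : Equiv.Perm (Fin 6)) j → ent (1 : S6 F) i j = 0 := by
  intro i j h
  rw [ent_one, if_neg]
  simpa using h

/-- The monomial elements. -/
def Mn (F : Type) [Field F] [Fintype F] : Subgroup (S6 F) where
  carrier := {g | Mon g}
  one_mem' := ⟨1, mon_one⟩
  mul_mem' := fun ⟨_, hp⟩ ⟨_, hr⟩ => ⟨_, mon_mul hp hr⟩
  inv_mem' := fun {g} hg => by
    obtain ⟨n, hn⟩ : ∃ n : ℕ, g⁻¹ = g ^ n := by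
      have : Finite (S6 F) := Finite.of_injective (fun x => x.1.1) fun a b h => Subtype.ext (Subtype.ext h)
      refine ⟨orderOf g - 1, ?_⟩
      rw [inv_eq_iff_mul_eq_one, ← pow_succ', Nat.sub_add_cancel (orderOf_pos g), pow_orderOf_eq_one]
    rw [hn]
    show Mon _
    clear hn
    induction n with
    | zero => exact ⟨1, by rw [pow_zero]; exact mon_one⟩
    | succ n ih =>
      obtain ⟨p, hp⟩ := ih
      obtain ⟨r, hr⟩ := hg
      exact ⟨_, by rw [pow_succ]; exact mon_mul hp hr⟩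

/-- The permutation of a monomial element. -/
noncomputable def ph (F : Type) [Field F] [Fintype F] : Mn F →* Equiv.Perm (Fin 6) :=
  MonoidHom.mk' (fun g => Classical.choose g.2) fun g h => by
    exact Mon.unique (Classical.choose_spec (g * h).2)
      (mon_mul (Classical.choose_spec g.2) (Classical.choose_spec h.2))

theorem ph_spec (g : Mn F) : ∀ i j, i ≠ ph F g j → ent (g : S6 F) i j = 0 :=
  Classical.choose_spec g.2

theorem ph_eq {g : S6 F} (hg : g ∈ Mn F) {p : Equiv.Perm (Fin 6)}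
    (h : ∀ i j, i ≠ p j → ent g i j = 0) : ph F ⟨g, hg⟩ = p :=
  Mon.unique (ph_spec ⟨g, hg⟩) h

/-- Monomial elements with permutation in a given subgroup. -/
noncomputable def lift (P : Subgroup (Equiv.Perm (Fin 6))) : Subgroup (S6 F) :=
  (P.comap (ph F)).map (Mn F).subtype

theorem mem_lift {P : Subgroup (Equiv.Perm (Fin 6))} {g : S6 F} :
    g ∈ lift P ↔ ∃ p ∈ P, ∀ i j, i ≠ p j → ent g i j = 0 := by
  rw [lift, Subgroup.mem_map]
  constructor
  · rintro ⟨x, hx, rfl⟩
    exact ⟨_, hx, ph_spec x⟩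
  · rintro ⟨p, hp, h⟩
    have hm : g ∈ Mn F := ⟨p, h⟩
    refine ⟨⟨g, hm⟩, ?_, rfl⟩
    rw [Subgroup.mem_comap, ph_eq hm h]
    exact hp

theorem lift_le_Mn (P : Subgroup (Equiv.Perm (Fin 6))) : lift (F := F) P ≤ Mn F :=
  Subgroup.map_subtype_le _

theorem lift_mono {P P' : Subgroup (Equiv.Perm (Fin 6))} (h : P ≤ P') :
    lift (F := F) P ≤ lift P' :=
  Subgroup.map_mono (Subgroup.comap_mono h)

variable (hF : Fintype.card F = 4)
include hF

omit hF in
theorem finite_S6 : Finite (S6 F) :=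
  Finite.of_injective (fun x => x.1.1) fun _ _ h => Subtype.ext (Subtype.ext h)

/-- A diagonal element. -/
noncomputable def dEl (d : Fin 6 → F) (h0 : ∀ i, d i ≠ 0) (h1 : ∏ i, d i = 1) : S6 F :=
  suOfUnitary (Matrix.diagonal d)
    (isUnitary_diagonal (card_sq hF) fun i => pow_three hF (h0 i)) (by rw [Matrix.det_diagonal, h1])

theorem ent_dEl (d : Fin 6 → F) (h0 : ∀ i, d i ≠ 0) (h1 : ∏ i, d i = 1) (i j : Fin 6) :
    ent (dEl hF d h0 h1) i j = if i = j then d i else 0 := by
  show Matrix.diagonal d i j = _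
  rw [Matrix.diagonal_apply]

/-- A permutation element. -/
noncomputable def pEl (p : Equiv.Perm (Fin 6)) : S6 F :=
  suOfUnitary ((p⁻¹ : Equiv.Perm (Fin 6)).permMatrix F) (isUnitary_permMatrix _) (by
    rw [Matrix.det_permutation]
    rcases Int.units_eq_one_or (Equiv.Perm.sign p⁻¹) with h | h <;> rw [h] <;> simp
    linear_combination (-1 : F) * two_eq_zero hF)

theorem ent_pEl (p : Equiv.Perm (Fin 6)) (i j : Fin 6) :
    ent (pEl hF p) i j = if i = p j then 1 else 0 := by
  show (p⁻¹ : Equiv.Perm (Fin 6)).permMatrix F i j = _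
  by_cases h : i = p j
  · subst h; simp [Equiv.Perm.permMatrix, PEquiv.toMatrix_apply]
  · rw [if_neg h]
    simp [Equiv.Perm.permMatrix, PEquiv.toMatrix_apply, Equiv.symm_apply_eq, h]

theorem mon_pEl (p : Equiv.Perm (Fin 6)) : ∀ i j, i ≠ p j → ent (pEl hF p) i j = 0 :=
  fun i j h => by rw [ent_pEl, if_neg h]

omit hF in
/-- The diagonal. -/
noncomputable def Dg (F : Type) [Field F] [Fintype F] : Subgroup (S6 F) := lift ⊥

omit hF in
theorem mem_Dg {g : S6 F} : g ∈ Dg F ↔ ∀ i j, i ≠ j → ent g i j = 0 := by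
  rw [Dg, mem_lift]
  constructor
  · rintro ⟨p, hp, h⟩ i j hij
    rw [Subgroup.mem_bot] at hp
    exact h i j (by rw [hp]; exact hij)
  · exact fun h => ⟨1, rfl, fun i j hij => h i j hij⟩

omit hF in
theorem Dg_ne {g : S6 F} (hg : g ∈ Dg F) (i : Fin 6) : ent g i i ≠ 0 :=
  Mon.ne_zero (p := 1) (fun a b h => mem_Dg.1 hg a b h) i

omit hF in
theorem Dg_prod {g : S6 F} (hg : g ∈ Dg F) : ∏ i, ent g i i = 1 := by
  have e : (g.1 : Matrix (Fin 6) (Fin 6) F) = Matrix.diagonal fun i => ent g i i := by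
    ext i j
    rcases eq_or_ne i j with rfl | h
    · rw [Matrix.diagonal_apply_eq]; rfl
    · rw [Matrix.diagonal_apply_ne _ h]; exact mem_Dg.1 hg i j h
  rw [← g.1.2, e, Matrix.det_diagonal]

omit hF in
theorem Dg_ext {g h : S6 F} (hg : g ∈ Dg F) (hh : h ∈ Dg F) (e : ∀ i, ent g i i = ent h i i) :
    g = h :=
  ext_ent fun i j => by
    rcases eq_or_ne i j with rfl | hij
    · exact e i
    · rw [mem_Dg.1 hg i j hij, mem_Dg.1 hh i j hij]

omit hF in
/-- A diagonal element is determined by five entries. -/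
theorem Dg_ext5 {g h : S6 F} (hg : g ∈ Dg F) (hh : h ∈ Dg F) (e : ∀ i, i ≠ 5 → ent g i i = ent h i i) :
    g = h := by
  refine Dg_ext hg hh fun i => ?_
  by_cases hi : i = 5
  · subst hi
    have h1 := Dg_prod hg
    have h2 := Dg_prod hh
    have hp := Finset.prod_congr rfl fun i (hi : i ∈ Finset.univ.erase (5 : Fin 6)) => e i (Finset.ne_of_mem_erase hi)
    rw [← Finset.mul_prod_erase _ _ (Finset.mem_univ (5 : Fin 6))] at h1 h2
    rw [← hp, ← h1] at h2
    exact (mul_right_cancel₀ (Finset.prod_ne_zero_iff.2 fun i _ => Dg_ne hg i) h2).symm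
  · exact e i hi

theorem dEl_mem (d : Fin 6 → F) (h0 : ∀ i, d i ≠ 0) (h1 : ∏ i, d i = 1) :
    dEl hF d h0 h1 ∈ Dg F :=
  mem_Dg.2 fun i j h => by rw [ent_dEl, if_neg h]

theorem card_ne_zero : Nat.card {x : F // x ≠ 0} = 3 := by
  classical
  rw [Nat.card_eq_fintype_card, Fintype.card_subtype_compl, hF, Fintype.card_subtype_eq]

theorem card_Dg : Nat.card (Dg F) = 243 := by
  let f : Dg F → (Fin 5 → {x : F // x ≠ 0}) := fun g i =>
    ⟨ent (g : S6 F) i.castSucc i.castSucc, Dg_ne g.2 _⟩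
  have hinj : Function.Injective f := fun g h e => Subtype.ext (Dg_ext5 g.2 h.2 fun i hi => by
    obtain ⟨k, rfl⟩ := Fin.exists_castSucc_eq.2 (show i ≠ Fin.last 5 from hi)
    exact congrArg Subtype.val (congrFun e k))
  have hsur : Function.Surjective f := by
    intro x
    let d : Fin 6 → F := Fin.snoc (fun i => (x i).1) (∏ i, (x i).1)⁻¹
    have hp : ∏ i, (x i).1 ≠ 0 := Finset.prod_ne_zero_iff.2 fun i _ => (x i).2
    have h0 : ∀ i, d i ≠ 0 := Fin.lastCases (by simp only [d, Fin.snoc_last]; exact inv_ne_zero hp) fun i => by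
      simp only [d, Fin.snoc_castSucc]; exact (x i).2
    have h1 : ∏ i, d i = 1 := by
      rw [Fin.prod_univ_castSucc]
      simp only [d, Fin.snoc_last, Fin.snoc_castSucc]
      exact mul_inv_cancel₀ hp
    refine ⟨⟨_, dEl_mem hF d h0 h1⟩, funext fun i => Subtype.ext ?_⟩
    show ent (dEl hF d h0 h1) i.castSucc i.castSucc = _
    rw [ent_dEl, if_pos rfl]
    simp [d]
  rw [Nat.card_eq_of_bijective f ⟨hinj, hsur⟩, Nat.card_fun, card_ne_zero hF]
  simp

theorem ph_surjective : Function.Surjective (ph F) := fun p =>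
  ⟨⟨pEl hF p, p, mon_pEl hF p⟩, ph_eq _ (mon_pEl hF p)⟩

theorem card_lift (P : Subgroup (Equiv.Perm (Fin 6))) :
    Nat.card (lift (F := F) P) = Nat.card P * 243 := by
  haveI := finite_S6 (F := F)
  rw [lift, natCard_map_subtype]
  have h0 : Nat.card ((ph F).ker) = 243 := by
    rw [← card_Dg hF, Dg, lift, natCard_map_subtype, MonoidHom.comap_bot]
  let f : P.comap (ph F) →* P := (ph F).subgroupComap P
  have hf : Function.Surjective f := fun p => by
    obtain ⟨x, hx⟩ := ph_surjective hF p.1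
    exact ⟨⟨x, show ph F x ∈ P from hx ▸ p.2⟩, Subtype.ext hx⟩
  have hk : Nat.card f.ker = 243 := by
    rw [← h0]
    refine Nat.card_congr ⟨fun x => ⟨x.1.1, congrArg Subtype.val (x.2 : f x.1 = 1)⟩,
      fun x => ⟨⟨x.1, show ph F x.1 ∈ P by rw [show ph F x.1 = 1 from x.2]; exact one_mem _⟩,
        Subtype.ext x.2⟩, fun x => rfl, fun x => rfl⟩
  rw [← Subgroup.card_mul_index f.ker, hk, Subgroup.index_ker, MonoidHom.range_eq_top.2 hf,
    Subgroup.card_top, mul_comm]

omit hF in
theorem Dg_le_lift (P : Subgroup (Equiv.Perm (Fin 6))) : Dg F ≤ lift P :=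
  lift_mono bot_le

omit hF in
theorem lift_conj {P : Subgroup (Equiv.Perm (Fin 6))} {g : S6 F} (hg : g ∈ Mn F)
    (hP : ∀ p ∈ P, ph F ⟨g, hg⟩ * p * (ph F ⟨g, hg⟩)⁻¹ ∈ P) {d : S6 F} (hd : d ∈ lift P) :
    g * d * g⁻¹ ∈ lift P := by
  obtain ⟨x, hx, rfl⟩ := Subgroup.mem_map.1 hd
  refine Subgroup.mem_map.2 ⟨(⟨g, hg⟩ : Mn F) * x * (⟨g, hg⟩ : Mn F)⁻¹, ?_, ?_⟩
  · rw [Subgroup.mem_comap, map_mul, map_mul, map_inv]
    exact hP _ hx
  · simp only [Subgroup.coe_subtype, Subgroup.coe_mul, Subgroup.coe_inv]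

omit hF in
theorem Dg_normal {g : S6 F} (hg : g ∈ Mn F) {d : S6 F} (hd : d ∈ Dg F) :
    g * d * g⁻¹ ∈ Dg F :=
  lift_conj hg (fun p hp => by rw [Subgroup.mem_bot] at hp ⊢; rw [hp, mul_one, mul_inv_cancel]) hd

omit hF in
/-- The conjugate of a diagonal element has the permuted entries. -/
theorem ent_conj_Dg {g : S6 F} {p : Equiv.Perm (Fin 6)} (hg : ∀ i j, i ≠ p j → ent g i j = 0)
    {d : S6 F} (hd : d ∈ Dg F) (j : Fin 6) : ent (g * d * g⁻¹) (p j) (p j) = ent d j j := by
  have hc : g * d * g⁻¹ ∈ Dg F := Dg_normal ⟨p, hg⟩ hd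
  have h1 := ent_mul_mon (g := g) (h := d) (r := 1) (fun a b h => mem_Dg.1 hd a b h) (p j) j
  have h2 := ent_mul_mon (g := g * d * g⁻¹) (h := g) hg (p j) j
  rw [inv_mul_cancel_right, h1] at h2
  exact mul_right_cancel₀ (Mon.ne_zero hg j) (by rw [← h2]; simp [mul_comm])

omit hF in
/-- The scalars. -/
noncomputable def Z6 (F : Type) [Field F] [Fintype F] : Subgroup (S6 F) :=
  Dg F ⊓ Subgroup.center (S6 F)

omit hF in
theorem mem_Z6_of_const {g : S6 F} (hg : g ∈ Dg F) (h : ∀ i, ent g i i = ent g 0 0) : g ∈ Z6 F := by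
  refine ⟨hg, Subgroup.mem_center_iff.2 fun x => ext_ent fun i j => ?_⟩
  rw [ent_mul_mon (r := 1) (fun a b h => mem_Dg.1 hg a b h) i j, ent_mul,
    Finset.sum_eq_single i (fun k _ hk => by rw [mem_Dg.1 hg i k (Ne.symm hk), zero_mul])
      fun h => absurd (Finset.mem_univ _) h]
  show ent x i j * ent g j j = _
  rw [h i, h j, mul_comm]

theorem scalar_of_center {g : S6 F} (hg : g ∈ Subgroup.center (S6 F)) :
    g ∈ Z6 F ∧ ∀ i, ent g i i = ent g 0 0 := by
  obtain ⟨z, -, -, hz⟩ := center_SU_scalar (card_sq hF) (by norm_num) hg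
  have e : ∀ i j, ent g i j = if i = j then z else 0 := fun i j => by
    show (g.1 : Matrix (Fin 6) (Fin 6) F) i j = _
    rw [hz, Matrix.scalar_apply, Matrix.diagonal_apply]
  exact ⟨⟨mem_Dg.2 fun i j h => by rw [e, if_neg h], hg⟩, fun i => by simp [e]⟩

theorem card_Z6 : Nat.card (Z6 F) = 3 := by
  have e : Z6 F = Subgroup.center (S6 F) :=
    le_antisymm inf_le_right fun g hg => (scalar_of_center hF hg).1
  rw [e, card_center_SU (card_sq hF) (by norm_num)]
  rfl

/-- Elements commuting with the diagonal are diagonal. -/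
theorem diag_of_commutes {g : S6 F} (h : ∀ d ∈ Dg F, g * d = d * g) : g ∈ Dg F := by
  obtain ⟨w, hw0, hw⟩ := exists_omega hF
  have hw1 : w ≠ 1 := by rintro rfl; exact one_ne_zero (by linear_combination -hw)
  refine mem_Dg.2 fun i j hij => ?_
  obtain ⟨k, hki, hkj⟩ : ∃ k : Fin 6, k ≠ i ∧ k ≠ j := by
    clear hij; revert i j; decide
  let d : Fin 6 → F := Function.update (Function.update 1 i w) k w⁻¹
  have h0 : ∀ a, d a ≠ 0 := fun a => by
    simp only [d, Function.update_apply]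
    split_ifs <;> simp [hw0]
  have h1 : ∏ a, d a = 1 := by
    rw [Finset.prod_eq_mul i k hki.symm (fun c _ hc => by simp [d, hc.1, hc.2]) (by simp) (by simp)]
    simp [d, hki.symm, hw0]
  have e := congrArg (fun x => ent x i j) (h _ (dEl_mem hF d h0 h1))
  simp only [ent_mul, ent_dEl] at e
  simp only [mul_ite, mul_zero, ite_mul, zero_mul, Finset.sum_ite_eq, Finset.sum_ite_eq',
    Finset.mem_univ, if_true] at e
  have hdi : d i = w := by simp [d, hki.symm]
  have hdj : d j = 1 := by simp [d, hij.symm, hkj.symm]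
  rw [hdi, hdj] at e
  have : ent g i j * (w - 1) = 0 := by linear_combination -e
  exact (mul_eq_zero.1 this).resolve_right (sub_ne_zero.2 hw1)

/-- The normaliser of the diagonal is monomial. -/
theorem mon_of_normalizes {g : S6 F} (h : ∀ d ∈ Dg F, g * d * g⁻¹ ∈ Dg F) : g ∈ Mn F := by
  classical
  obtain ⟨w, hw0, hw⟩ := exists_omega hF
  have hw1 : w ≠ 1 := by rintro rfl; exact one_ne_zero (by linear_combination -hw)
  have hone : ∀ i j k, ent g i j ≠ 0 → ent g i k ≠ 0 → j = k := by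
    intro i j k hj hk
    by_contra hjk
    obtain ⟨l, hlj, hlk⟩ : ∃ l : Fin 6, l ≠ j ∧ l ≠ k := by
      clear hj hk hjk; revert j k; decide
    let d : Fin 6 → F := Function.update (Function.update 1 j w) l w⁻¹
    have h0 : ∀ a, d a ≠ 0 := fun a => by
      simp only [d, Function.update_apply]
      split_ifs <;> simp [hw0]
    have h1 : ∏ a, d a = 1 := by
      rw [Finset.prod_eq_mul j l hlj.symm (fun c _ hc => by simp [d, hc.1, hc.2]) (by simp) (by simp)]
      simp [d, hlj.symm, hw0]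
    set c := g * dEl hF d h0 h1 * g⁻¹ with hc
    have hcD := h _ (dEl_mem hF d h0 h1)
    have e : c * g = g * dEl hF d h0 h1 := by rw [hc, inv_mul_cancel_right]
    have key : ∀ a, ent g i a ≠ 0 → ent c i i = d a := fun a ha => by
      have := congrArg (fun x => ent x i a) e
      simp only [ent_mul] at this
      rw [Finset.sum_eq_single i (fun b _ hb => by rw [mem_Dg.1 hcD i b (Ne.symm hb), zero_mul])
        fun h => absurd (Finset.mem_univ _) h] at this
      simp only [ent_dEl, mul_ite, mul_zero, Finset.sum_ite_eq', Finset.mem_univ, if_true] at this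
      exact mul_right_cancel₀ ha (this.trans (mul_comm _ _))
    have h2 := (key j hj).symm.trans (key k hk)
    simp [d, hlj.symm, hlk.symm, Ne.symm hjk] at h2
    exact hw1 h2
  have hcol : ∀ j, ∃ i, ent g i j ≠ 0 := fun j => by
    by_contra hh
    push Not at hh
    have := g.1.2
    erw [Matrix.det_eq_zero_of_column_eq_zero j hh] at this
    exact zero_ne_one this
  choose p hp using hcol
  have hinj : Function.Injective p := fun a b e => hone (p a) a b (hp a) (e ▸ hp b)
  refine ⟨Equiv.ofBijective p (Finite.injective_iff_bijective.1 hinj), fun i j hij => ?_⟩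
  by_contra hne
  obtain ⟨a, rfl⟩ := (Finite.injective_iff_bijective.1 hinj).2 i
  exact hij (by rw [hone _ a j (hp a) hne]; rfl)

theorem card_S6 : Nat.card (S6 F) = 27590492160 := by
  show Nat.card ↥(Cfsg.SU 6 F 2) = 27590492160
  have h := card_SU (card_sq hF) 6 (by norm_num)
  norm_num [Finset.prod_range_succ, Nat.even_iff] at h
  omega

omit hF in
/-- The even monomial elements. -/
noncomputable def Mv (F : Type) [Field F] [Fintype F] : Subgroup (S6 F) :=
  lift (alternatingGroup (Fin 6))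

theorem card_Mv : Nat.card (Mv F) = 87480 := by
  rw [Mv, card_lift hF, nat_card_alternatingGroup]
  simp [Nat.factorial]

omit hF in
theorem Mv_normal {g : S6 F} (hg : g ∈ Mn F) {m : S6 F} (hm : m ∈ Mv F) :
    g * m * g⁻¹ ∈ Mv F :=
  lift_conj hg (fun _ hp => (inferInstance : (alternatingGroup (Fin 6)).Normal).conj_mem _ hp _) hm

end Cfsg.Agent.SUSixUFour
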