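import Cfsg.Agent.Lib.SUSixUFour.Model

/-!
# The 112 frames: the monomial part of the subgroup

* `block_inv`, `mon_of_col` : the frames are permuted
* `K1_inf_Mn`, `K1_eq_sup` : monomial part and generation
* `scalar_of_comm_Mv` : the centraliser of the even monomial group
-/

set_option autoImplicit false
set_option maxRecDepth 100000

open scoped Matrix

namespace Cfsg.Agent.SUSixUFour

open StabCert Cert Cfsg.Agent.Unitary Cfsg.Agent.U62Cover

/-- The 5-cycle. -/
def cF : Equiv.Perm (Fin 6) :=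
  Equiv.swap 1 2 * Equiv.swap 2 3 * Equiv.swap 3 4 * Equiv.swap 4 5

/-- The permutation of a word in the two permutation generators. -/
def wperm (l : List ℕ) : Equiv.Perm (Fin 6) :=
  (l.map fun k => if k = 5 then cA else cF).prod

/-- The code of a permutation. -/
def pcode (p : Equiv.Perm (Fin 6)) : ℕ := code 6 ((List.finRange 6).map fun i => (p i).val)

theorem permWords_ok : ((List.range 360).all fun n =>
    (permWords.getD n []).all fun k => Nat.beq k 5 || Nat.beq k 6) = true ∧
    distinctFrom ((List.range 360).map fun n => pcode (wperm (permWords.getD n []))) 0 = true ∧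
    ((List.range 360).all fun n => Equiv.Perm.sign (wperm (permWords.getD n [])) == 1) = true := by
  decide +kernel

theorem wperm_zero : ∀ i : Fin 6, ((List.range 360).any fun n =>
    decide (wperm (permWords.getD n []) 0 = i)) = true := by
  decide +kernel

theorem gperm_ok : ((List.range 6).all fun i => (List.range 6).all fun j =>
    (Nat.beq i (([1, 2, 0, 3, 4, 5] : List ℕ).getD j 0) || Nat.beq (((g6.getD 5 []).getD i []).getD j 0) 0) &&
    (Nat.beq i (([0, 2, 3, 4, 5, 1] : List ℕ).getD j 0) || Nat.beq (((g6.getD 6 []).getD i []).getD j 0) 0)) = true ∧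
    (∀ j : Fin 6, (cA j).val = ([1, 2, 0, 3, 4, 5] : List ℕ).getD j.val 0 ∧
      (cF j).val = ([0, 2, 3, 4, 5, 1] : List ℕ).getD j.val 0) := by
  decide +kernel

theorem gdiag_ok : ((List.range 5).all fun k => (List.range 6).all fun i => (List.range 6).all fun j =>
    Nat.beq (((g6.getD k []).getD i []).getD j 0)
      (if i = j then if i = 0 then 2 else if i = k + 1 then 3 else 1 else 0)) = true := by
  decide +kernel

theorem unit_only : ((List.range 2016).all fun j => Nat.blt j 18 ||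
    Nat.ble 2 ((vecL j).countP fun x => !Nat.beq x 0)) = true := by
  decide +kernel

variable {F : Type} [Field F] [Fintype F] (hF : Fintype.card F = 4)
variable (φ : M4 →+* F) (hφ : ∀ z, φ (star z) = φ z ^ 2)

theorem g6el_list {k : ℕ} (hk : k < 14) (i j : Fin 6) :
    ent (g6el hF φ hφ k) i j = φ (qe 2 1 1 (((g6.getD k []).getD i.val []).getD j.val 0)) :=
  g6el_ent hF φ hφ hk i j

theorem qe_zero4 : qe 2 1 1 0 = (0 : M4) := by decide +kernel

/-- Blocks are mapped to blocks. -/
def BlockMap (x : S6 F) : Prop :=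
  ∀ b < 112, ∃ b' < 112, ∀ r < 18, ∃ r' < 18,
    vecHom x (vec φ (18 * b + r)) = vec φ (18 * b' + r')

theorem blockMap_gen {k : ℕ} (hk : k < 14) : BlockMap φ (g6el hF φ hφ k) := by
  intro b hb
  have h := List.all_eq_true.1 (List.all_eq_true.1 block_ok k (List.mem_range.2 hk)) b (List.mem_range.2 hb)
  simp only [List.all_eq_true, List.mem_range, Nat.beq_eq] at h
  obtain ⟨h1, h2, -⟩ := g6el_vec hF φ hφ hk (show 18 * b < 2016 by omega)
  refine ⟨(look 12 (tab.getD k 0) (280 + 18 * b) - 280) / 18, by omega, fun r hr => ?_⟩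
  obtain ⟨a1, a2, a3⟩ := g6el_vec hF φ hφ hk (show 18 * b + r < 2016 by omega)
  rw [← Nat.add_assoc] at a1 a2 a3
  refine ⟨(look 12 (tab.getD k 0) (280 + 18 * b + r) - 280) % 18, Nat.mod_lt _ (by norm_num), ?_⟩
  rw [a3, ← h r hr, Nat.div_add_mod]

theorem block_inv {x : S6 F} (hx : x ∈ K1 hF φ hφ) : BlockMap φ x := by
  haveI := finite_S6 (F := F)
  rw [K1, sub, ← Subgroup.mem_toSubmonoid, Subgroup.closure_toSubmonoid_of_finite] at hx
  induction hx using Submonoid.closure_induction with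
  | mem y hy =>
    obtain ⟨k, hk, rfl⟩ := hy
    exact blockMap_gen hF φ hφ (List.mem_range.1 hk)
  | one => exact fun b hb => ⟨b, hb, fun r hr => ⟨r, hr, by rw [map_one]; rfl⟩⟩
  | mul y z _ _ hy hz =>
    intro b hb
    obtain ⟨b1, hb1, h1⟩ := hz b hb
    obtain ⟨b2, hb2, h2⟩ := hy b1 hb1
    refine ⟨b2, hb2, fun r hr => ?_⟩
    obtain ⟨r1, hr1, e1⟩ := h1 r hr
    obtain ⟨r2, hr2, e2⟩ := h2 r1 hr1
    exact ⟨r2, hr2, by rw [map_mul, Equiv.Perm.mul_apply, e1, e2]⟩

theorem std_index (j : Fin 6) : vec φ (18 * 0 + 3 * j.val) = Pi.single j 1 := by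
  rw [Nat.mul_zero, Nat.zero_add]
  exact vec_std φ j

omit [Fintype F] in
theorem vec_first {r : ℕ} (hr : r < 18) (i : Fin 6) (hi : i.val ≠ r / 3) : vec φ r i = 0 := by
  have h := List.all_eq_true.1 (List.all_eq_true.1 block_zero r (List.mem_range.2 hr)) i.val
    (List.mem_range.2 i.isLt)
  simp only [Bool.or_eq_true, Nat.beq_eq] at h
  show φ (qe 2 1 1 _) = 0
  rw [h.resolve_left hi, qe_zero4, map_zero]

omit [Fintype F] in
theorem vec_single {j : ℕ} (hj : j < 2016) {i0 : Fin 6} (h : ∀ i, i ≠ i0 → vec φ j i = 0) : j < 18 := by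
  have hu := List.all_eq_true.1 unit_only j (List.mem_range.2 hj)
  simp only [Bool.or_eq_true, Nat.blt_eq, Nat.ble_eq] at hu
  refine hu.resolve_right fun h2 => ?_
  obtain ⟨hlen, hlt⟩ := vecL_spec hj
  have hz : ∀ i : Fin 6, i ≠ i0 → (vecL j).getD i.val 0 = 0 := by
    intro i hi
    have e := h i hi
    change φ (qe 2 1 1 _) = 0 at e
    rw [← map_zero φ] at e
    have e2 := phi_injective φ e
    have hm : (vecL j).getD i.val 0 < 4 := by
      rw [List.getD_eq_getElem _ _ (show i.val < (vecL j).length by omega)]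
      exact hlt _ (List.getElem_mem _)
    generalize (vecL j).getD i.val 0 = x at e2 hm
    revert e2
    interval_cases x <;> decide +kernel
  match hv : vecL j, hlen with
  | [a, b, c, d, e, f], _ =>
    rw [hv] at h2 hz
    have hz0 := hz 0
    have hz1 := hz 1
    have hz2 := hz 2
    have hz3 := hz 3
    have hz4 := hz 4
    have hz5 := hz 5
    fin_cases i0 <;> simp_all [List.countP_cons] <;> split_ifs at h2 <;> omega

/-- A monomial column forces monomiality. -/
theorem mon_of_col {x : S6 F} (hx : x ∈ K1 hF φ hφ) {i0 : Fin 6} (h : ∀ i, i ≠ i0 → ent x i 0 = 0) :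
    x ∈ Mn F := by
  obtain ⟨b', hb', hr⟩ := block_inv hF φ hφ hx 0 (by norm_num)
  have hb0 : b' = 0 := by
    obtain ⟨r', hr', e⟩ := hr (3 * (0 : Fin 6).val) (by norm_num)
    rw [std_index, vecHom_apply, Matrix.mulVec_single_one] at e
    have := vec_single φ (j := 18 * b' + r') (by omega) (i0 := i0) fun i hi => by
      rw [← e]; exact h i hi
    omega
  subst hb0
  have hcol : ∀ j : Fin 6, ∃ p : Fin 6, ∀ i, i ≠ p → ent x i j = 0 := by
    intro j
    obtain ⟨r', hr', e⟩ := hr (3 * j.val) (by omega)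
    rw [std_index, vecHom_apply, Matrix.mulVec_single_one] at e
    refine ⟨⟨r' / 3, by omega⟩, fun i hi => ?_⟩
    show mx x i j = 0
    have e' := congrFun e i
    rw [Nat.mul_zero, Nat.zero_add] at e'
    refine e'.trans (vec_first φ hr' i fun hh => hi (Fin.ext hh))
  choose p hp using hcol
  have hne : ∀ j, ent x (p j) j ≠ 0 := by
    intro j e
    have hd : (x.1 : Matrix (Fin 6) (Fin 6) F).det = 0 :=
      Matrix.det_eq_zero_of_column_eq_zero j fun i => by
        by_cases hi : i = p j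
        · subst hi; exact e
        · exact hp j i hi
    rw [x.1.2] at hd
    exact one_ne_zero hd
  have hinj : Function.Injective p := by
    intro a b hab
    by_contra hne'
    have hd : (x.1 : Matrix (Fin 6) (Fin 6) F).det = 0 := by
      refine Matrix.exists_mulVec_eq_zero_iff.1
        ⟨Pi.single a (ent x (p a) b) - Pi.single b (ent x (p a) a), ?_, ?_⟩
      · intro h0
        have := congrFun h0 b
        simp [Ne.symm hne'] at this
        exact hne a this
      · funext i
        rw [Matrix.mulVec_sub, Pi.sub_apply, Matrix.mulVec_single, Matrix.mulVec_single]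
        show ent x i a * ent x (p a) b - ent x i b * ent x (p a) a = 0
        by_cases hi : i = p a
        · subst hi; ring
        · rw [hp a i hi, hp b i (hab ▸ hi)]; ring
    rw [x.1.2] at hd
    exact one_ne_zero hd
  exact ⟨Equiv.ofBijective p (Finite.injective_iff_bijective.1 hinj), fun i j hij => hp j i hij⟩

theorem word_vec : ∀ (l : List ℕ), (∀ k ∈ l, k < 14) → ∀ j < 2016, ∃ i < 2016,
    ev 12 tab l (280 + j) = 280 + i ∧ vecHom (wordEl (g6el hF φ hφ) l) (vec φ j) = vec φ i
  | [], _, j, hj => ⟨j, hj, rfl, by simp [wordEl]⟩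
  | k :: l, hl, j, hj => by
    obtain ⟨i, hi, e1, e2⟩ := word_vec l (fun a ha => hl a (List.mem_cons_of_mem _ ha)) j hj
    obtain ⟨a1, a2, a3⟩ := g6el_vec hF φ hφ (hl k List.mem_cons_self) hi
    refine ⟨look 12 (tab.getD k 0) (280 + i) - 280, by omega, ?_, ?_⟩
    · show look 12 (tab.getD k 0) (ev 12 tab l (280 + j)) = _
      rw [e1]; omega
    · rw [show wordEl (g6el hF φ hφ) (k :: l) = g6el hF φ hφ k * wordEl (g6el hF φ hφ) l from by
        simp [wordEl], map_mul, Equiv.Perm.mul_apply, e2, a3]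

/-- The element leading to a block. -/
noncomputable def bEl (b : ℕ) : S6 F := wordEl (g6el hF φ hφ) (blockWords.getD b [])

theorem bEl_spec {b : ℕ} (hb : b < 112) : bEl hF φ hφ b ∈ sub (g6el hF φ hφ) (List.range 8) ∧
    bEl hF φ hφ b ∈ K1 hF φ hφ ∧
    ∃ r < 18, vecHom (bEl hF φ hφ b) (vec φ 0) = vec φ (18 * b + r) := by
  have h := List.all_eq_true.1 blockWords_ok b (List.mem_range.2 hb)
  simp only [Bool.and_eq_true, List.all_eq_true, Nat.blt_eq, Nat.beq_eq] at h
  obtain ⟨hl, he⟩ := h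
  refine ⟨wordEl_mem _ fun k hk => List.mem_range.2 (hl k hk),
    wordEl_mem _ fun k hk => List.mem_range.2 ((hl k hk).trans (by norm_num)), ?_⟩
  obtain ⟨i, hi, e1, e2⟩ := word_vec hF φ hφ _ (fun k hk => (hl k hk).trans (by norm_num)) 0 (by norm_num)
  rw [Nat.add_zero] at e1
  rw [e1, Nat.add_sub_cancel_left] at he
  exact ⟨i % 18, Nat.mod_lt _ (by norm_num), by rw [bEl, e2, ← he, Nat.div_add_mod]⟩

/-- A subgroup containing the block elements has at least 112 times its monomial part. -/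
theorem card_blocks {L S : Subgroup (S6 F)} (hSL : S ≤ L) (hSK : S ≤ K1 hF φ hφ) (hSM : S ≤ Mn F)
    (hL : ∀ b < 112, bEl hF φ hφ b ∈ L) : 112 * Nat.card S ≤ Nat.card L := by
  haveI := finite_S6 (F := F)
  let f : Fin 112 × S → L := fun t => ⟨bEl hF φ hφ t.1 * t.2, mul_mem (hL _ t.1.isLt) (hSL t.2.2)⟩
  have key : ∀ (b : Fin 112) (s : S), ∃ r < 18,
      vecHom (bEl hF φ hφ b * (s : S6 F)) (vec φ 0) = vec φ (18 * b.val + r) := by
    intro b s
    obtain ⟨-, hbK, r0, hr0, e0⟩ := bEl_spec hF φ hφ b.isLt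
    obtain ⟨b', hb', hr⟩ := block_inv hF φ hφ hbK 0 (by norm_num)
    obtain ⟨ra, hra, ea⟩ := hr 0 (by norm_num)
    rw [Nat.mul_zero, Nat.zero_add, e0] at ea
    have hbb : b' = b.val := by
      have := vec_inj φ (by omega) (by omega) ea
      omega
    obtain ⟨c, hc, hc2⟩ := block_inv hF φ hφ (hSK s.2) 0 (by norm_num)
    obtain ⟨r1, hr1, e1⟩ := hc2 (3 * (0 : Fin 6).val) (by norm_num)
    have hc0 : c = 0 := by
      obtain ⟨p, hp⟩ := hSM s.2
      rw [std_index, vecHom_apply, Matrix.mulVec_single_one] at e1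
      have := vec_single φ (j := 18 * c + r1) (by omega) (i0 := p 0) fun i hi => by
        rw [← e1]; exact hp i 0 hi
      omega
    subst hc0
    obtain ⟨r2, hr2, e2⟩ := hr r1 hr1
    refine ⟨r2, hr2, ?_⟩
    have e1' : vecHom (s : S6 F) (vec φ 0) = vec φ (18 * 0 + r1) := by
      simpa using e1
    rw [map_mul, Equiv.Perm.mul_apply, e1', e2, hbb]
  have hinj : Function.Injective f := by
    rintro ⟨b, s⟩ ⟨b', s'⟩ e
    have e' : bEl hF φ hφ b * (s : S6 F) = bEl hF φ hφ b' * (s' : S6 F) := congrArg Subtype.val e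
    obtain ⟨r, hr, e1⟩ := key b s
    obtain ⟨r', hr', e2⟩ := key b' s'
    rw [e', e2] at e1
    have := vec_inj φ (by omega) (by omega) e1
    have hb : b = b' := Fin.ext (by omega)
    subst hb
    exact Prod.ext rfl (Subtype.ext (mul_left_cancel e'))
  have := Nat.card_le_card_of_injective f hinj
  rwa [Nat.card_prod, Nat.card_fin] at this

theorem g6el_perm : (∀ i j, i ≠ cA j → ent (g6el hF φ hφ 5) i j = 0) ∧
    (∀ i j, i ≠ cF j → ent (g6el hF φ hφ 6) i j = 0) := by
  obtain ⟨h, hp⟩ := gperm_ok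
  simp only [List.all_eq_true, List.mem_range, Bool.and_eq_true, Bool.or_eq_true, Nat.beq_eq] at h
  refine ⟨fun i j hij => ?_, fun i j hij => ?_⟩
  · rw [g6el_list hF φ hφ (by norm_num)]
    rw [(h i.val i.isLt j.val j.isLt).1.resolve_left fun e => hij (Fin.ext (e.trans (hp j).1.symm)),
      qe_zero4, map_zero]
  · rw [g6el_list hF φ hφ (by norm_num)]
    rw [(h i.val i.isLt j.val j.isLt).2.resolve_left fun e => hij (Fin.ext (e.trans (hp j).2.symm)),
      qe_zero4, map_zero]

theorem g6el_diag {k : ℕ} (hk : k < 5) : g6el hF φ hφ k ∈ Dg F ∧ ∀ i : Fin 6,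
    ent (g6el hF φ hφ k) i i =
      if i.val = 0 then φ (qe 2 1 1 2) else if i.val = k + 1 then φ (qe 2 1 1 3) else 1 := by
  have h := List.all_eq_true.1 gdiag_ok k (List.mem_range.2 hk)
  simp only [List.all_eq_true, List.mem_range, Nat.beq_eq] at h
  refine ⟨mem_Dg.2 fun i j hij => ?_, fun i => ?_⟩
  · rw [g6el_list hF φ hφ (by omega), h i.val i.isLt j.val j.isLt,
      if_neg (fun e => hij (Fin.ext e)), qe_zero4, map_zero]
  · rw [g6el_list hF φ hφ (by omega), h i.val i.isLt i.val i.isLt, if_pos rfl]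
    split_ifs
    · rfl
    · rfl
    · rw [show qe 2 1 1 1 = (1 : M4) by decide +kernel, map_one]

include hF in
theorem Dg_le_sub : Dg F ≤ sub (g6el hF φ hφ) (List.range 5) := by
  have hroots : ∀ x : F, x ≠ 0 → x = 1 ∨ x = φ (qe 2 1 1 2) ∨ x = φ (qe 2 1 1 3) := by
    classical
    intro x hx
    by_contra hh
    simp only [not_or] at hh
    have hd : ([0, 1, φ (qe 2 1 1 2), φ (qe 2 1 1 3), x] : List F).Nodup := by
      have a : φ (qe 2 1 1 2) ≠ φ (qe 2 1 1 3) := fun e =>
        absurd (phi_injective φ e) (by decide +kernel)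
      have b : φ (qe 2 1 1 2) ≠ 0 := fun e =>
        absurd (phi_injective φ (e.trans (map_zero φ).symm)) (by decide +kernel)
      have c : φ (qe 2 1 1 3) ≠ 0 := fun e =>
        absurd (phi_injective φ (e.trans (map_zero φ).symm)) (by decide +kernel)
      have d : φ (qe 2 1 1 2) ≠ 1 := fun e =>
        absurd (phi_injective φ (e.trans (map_one φ).symm)) (by decide +kernel)
      have f : φ (qe 2 1 1 3) ≠ 1 := fun e =>
        absurd (phi_injective φ (e.trans (map_one φ).symm)) (by decide +kernel)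
      simp [List.nodup_cons, Ne.symm hx, b.symm, c.symm, d.symm, f.symm, a, Ne.symm hh.1, Ne.symm hh.2.1,
        Ne.symm hh.2.2]
    have := hd.length_le_card
    rw [hF] at this
    simp at this
  have step : ∀ n, n ≤ 5 → ∀ d ∈ Dg F, (∀ i : Fin 6, n < i.val → ent d i i = 1) → d ∈ sub (g6el hF φ hφ) (List.range 5) := by
    intro n
    induction n with
    | zero =>
      intro _ d hd h1
      have : d = 1 := by
        have hp := Dg_prod_six hd
        rw [h1 1 (by decide), h1 2 (by decide), h1 3 (by decide), h1 4 (by decide), h1 5 (by decide)] at hp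
        simp at hp
        refine Dg_ext hd (one_mem _) fun i => ?_
        rw [ent_one, if_pos rfl]
        rcases eq_or_ne i 0 with rfl | hi
        · exact hp
        · exact h1 i (Nat.pos_of_ne_zero fun e => hi (Fin.ext e))
      rw [this]; exact one_mem _
    | succ n ih =>
      intro hn d hd h1
      have hk : n < 5 := hn
      obtain ⟨hg, hge⟩ := g6el_diag hF φ hφ hk
      have hgK : g6el hF φ hφ n ∈ sub (g6el hF φ hφ) (List.range 5) :=
        gen_mem_sub _ (List.mem_range.2 hk)
      set j : Fin 6 := ⟨n + 1, by omega⟩ with hj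
      have hgj : ent (g6el hF φ hφ n) j j = φ (qe 2 1 1 3) := by
        rw [hge, if_neg (by simp [hj]), if_pos rfl]
      have hmul : ∀ a b : S6 F, a ∈ Dg F → b ∈ Dg F → ∀ i, ent (a * b) i i = ent a i i * ent b i i :=
        fun a b _ hb i => ent_mul_mon (r := 1) (fun u v h => mem_Dg.1 hb u v h) i i
      have hfix : ∀ e : S6 F, e ∈ Dg F → (∀ i : Fin 6, n + 1 < i.val → ent e i i = 1) →
          ∀ i : Fin 6, n + 1 < i.val → ent (e * g6el hF φ hφ n) i i = 1 := by
        intro e he h i hi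
        rw [hmul e _ he hg, h i hi, hge, if_neg (by omega), if_neg (by omega), one_mul]
      have fin : ∀ e : S6 F, e ∈ Dg F → (∀ i : Fin 6, n + 1 < i.val → ent e i i = 1) →
          ent e j j = 1 → e ∈ sub (g6el hF φ hφ) (List.range 5) := fun e he h hej => ih (by omega) e he fun i hi => by
        rcases Nat.lt_or_ge (n + 1) i.val with h' | h'
        · exact h i h'
        · rw [show i = j from Fin.ext (by simp [hj]; omega)]; exact hej
      rcases hroots _ (Dg_ne hd j) with e | e | e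
      · exact fin d hd h1 e
      · have := fin _ (mul_mem hd hg) (hfix d hd h1) (by
          rw [hmul d _ hd hg, e, hgj, ← map_mul,
            show qe 2 1 1 2 * qe 2 1 1 3 = (1 : M4) by decide +kernel, map_one])
        exact (Subgroup.mul_mem_cancel_right _ hgK).1 this
      · have := fin _ (mul_mem (mul_mem hd hg) hg) (hfix _ (mul_mem hd hg) (hfix d hd h1)) (by
          rw [hmul _ _ (mul_mem hd hg) hg, hmul d _ hd hg, e, hgj, ← map_mul, ← map_mul,
            show qe 2 1 1 3 * qe 2 1 1 3 * qe 2 1 1 3 = (1 : M4) by decide +kernel, map_one])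
        exact (Subgroup.mul_mem_cancel_right _ hgK).1 ((Subgroup.mul_mem_cancel_right _ hgK).1 this)
  intro d hd
  exact step 5 le_rfl d hd fun i hi => absurd i.isLt (by omega)

include hF in
theorem Dg_le_K1 : Dg F ≤ K1 hF φ hφ :=
  (Dg_le_sub hF φ hφ).trans (Subgroup.closure_mono (Set.image_mono fun k hk =>
    List.mem_range.2 ((List.mem_range.1 hk).trans (by norm_num))))

theorem wperm_mem {l : List ℕ} (hl : ∀ k ∈ l, k = 5 ∨ k = 6) :
    wordEl (g6el hF φ hφ) l ∈ K1 hF φ hφ ∧
      ∀ i j, i ≠ wperm l j → ent (wordEl (g6el hF φ hφ) l) i j = 0 := by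
  induction l with
  | nil => exact ⟨one_mem _, by simpa [wordEl, wperm] using mon_one (F := F)⟩
  | cons k l ih =>
    obtain ⟨h1, h2⟩ := ih fun a ha => hl a (List.mem_cons_of_mem _ ha)
    have e : wordEl (g6el hF φ hφ) (k :: l) = g6el hF φ hφ k * wordEl (g6el hF φ hφ) l := by
      simp [wordEl]
    have e' : wperm (k :: l) = (if k = 5 then cA else cF) * wperm l := by simp [wperm]
    rw [e, e']
    refine ⟨mul_mem (g6el_mem hF φ hφ (by rcases hl k List.mem_cons_self with rfl | rfl <;> norm_num)) h1,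
      mon_mul ?_ h2⟩
    rcases hl k List.mem_cons_self with rfl | rfl
    · exact (g6el_perm hF φ hφ).1
    · exact (g6el_perm hF φ hφ).2

variable {F9 : Type} [Field F9] [Fintype F9] (hF9 : Fintype.card F9 = 3 ^ 2) (ψ : M9 →+* F9)
  (hψ : ∀ z, ψ (star z) = ψ z ^ 3)

include hF9 hψ in
theorem K1_inf_Mn : K1 hF φ hφ ⊓ Mn F = Mv F := by
  classical
  haveI := finite_S6 (F := F)
  set R : Subgroup (Equiv.Perm (Fin 6)) := ((K1 hF φ hφ).comap (Mn F).subtype).map (ph F) with hR
  have hlift : lift R = K1 hF φ hφ ⊓ Mn F := by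
    ext g
    constructor
    · intro hg
      obtain ⟨p, hp, h⟩ := mem_lift.1 hg
      have hgM : g ∈ Mn F := ⟨p, h⟩
      refine ⟨?_, hgM⟩
      obtain ⟨x, hx, hxp⟩ := Subgroup.mem_map.1 hp
      have hker : x⁻¹ * ⟨g, hgM⟩ ∈ (ph F).ker := by
        rw [MonoidHom.mem_ker, map_mul, map_inv, hxp, ph_eq hgM h, inv_mul_cancel]
      have hD : (x : S6 F)⁻¹ * g ∈ Dg F :=
        mem_lift.2 ⟨1, one_mem _, fun i j hij => ph_spec (x⁻¹ * ⟨g, hgM⟩) i j
          (by rw [show ph F (x⁻¹ * ⟨g, hgM⟩) = 1 from hker]; exact hij)⟩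
      have := mul_mem (Subgroup.mem_comap.1 hx) (Dg_le_K1 hF φ hφ hD)
      rwa [Subgroup.coe_subtype, mul_inv_cancel_left] at this
    · rintro ⟨hK, hM⟩
      exact mem_lift.2 ⟨ph F ⟨g, hM⟩, Subgroup.mem_map.2 ⟨⟨g, hM⟩, hK, rfl⟩, ph_spec _⟩
  have hup : Nat.card R * 243 ≤ 87480 := by
    rw [← card_lift hF, hlift]
    have := card_blocks hF φ hφ (L := K1 hF φ hφ) (S := K1 hF φ hφ ⊓ Mn F) inf_le_left inf_le_left
      inf_le_right fun b hb => (bEl_spec hF φ hφ hb).2.1
    rw [(exists_hom_PSU hF φ hφ hF9 ψ hψ).1] at this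
    omega
  obtain ⟨hl, hd, -⟩ := permWords_ok
  simp only [List.all_eq_true, List.mem_range, Bool.or_eq_true, Nat.beq_eq] at hl
  have hmem : ∀ n < 360, wperm (permWords.getD n []) ∈ R := by
    intro n hn
    obtain ⟨h1, h2⟩ := wperm_mem hF φ hφ (hl n hn)
    exact Subgroup.mem_map.2 ⟨⟨_, _, h2⟩, h1, ph_eq ⟨_, h2⟩ h2⟩
  have hlow : 360 ≤ Nat.card R := by
    have hinj : Function.Injective (fun n : Fin 360 => (⟨_, hmem n.val n.isLt⟩ : R)) := by
      intro a b e
      have e' : pcode (wperm (permWords.getD a.val [])) = pcode (wperm (permWords.getD b.val [])) :=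
        congrArg (fun t : R => pcode t.1) e
      exact Fin.ext ((List.inj_on_of_nodup_map (distinctFrom_spec _ _ hd).1)
        (List.mem_range.2 a.isLt) (List.mem_range.2 b.isLt) e')
    simpa using Nat.card_le_card_of_injective _ hinj
  have hindex : R.index = 2 := by
    have := Subgroup.card_mul_index R
    rw [show Nat.card R = 360 by omega, Nat.card_perm, Nat.card_fin] at this
    simp [Nat.factorial] at this
    omega
  rw [← hlift, Equiv.Perm.eq_alternatingGroup_of_index_eq_two hindex]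
  rfl

include hF9 hψ in
theorem Mv_le_K1 : Mv F ≤ K1 hF φ hφ :=
  (K1_inf_Mn hF φ hφ hF9 ψ hψ).symm.le.trans inf_le_left

include hF9 hψ in
theorem K1_eq_sup : Mv F ⊔ Subgroup.zpowers (g6el hF φ hφ 7) = K1 hF φ hφ := by
  haveI := finite_S6 (F := F)
  have hMK := Mv_le_K1 hF φ hφ hF9 ψ hψ
  refine Subgroup.eq_of_le_of_card_ge
    (sup_le hMK (Subgroup.zpowers_le.2 (g6el_mem hF φ hφ (by norm_num)))) ?_
  have h8 : sub (g6el hF φ hφ) (List.range 8) ≤ Mv F ⊔ Subgroup.zpowers (g6el hF φ hφ 7) := by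
    rw [sub, Subgroup.closure_le]
    rintro _ ⟨k, hk, rfl⟩
    have hk' : k < 8 := List.mem_range.1 hk
    rcases Nat.lt_or_ge k 7 with h | h
    · refine Subgroup.mem_sup_left ?_
      rw [← K1_inf_Mn hF φ hφ hF9 ψ hψ]
      refine ⟨g6el_mem hF φ hφ (by omega), ?_⟩
      rcases Nat.lt_or_ge k 5 with h5 | h5
      · exact lift_le_Mn _ (g6el_diag hF φ hφ h5).1
      · obtain rfl | rfl : k = 5 ∨ k = 6 := by omega
        · exact ⟨_, (g6el_perm hF φ hφ).1⟩
        · exact ⟨_, (g6el_perm hF φ hφ).2⟩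
    · obtain rfl : k = 7 := by omega
      exact Subgroup.mem_sup_right (Subgroup.mem_zpowers _)
  have := card_blocks hF φ hφ (S := Mv F) (L := Mv F ⊔ Subgroup.zpowers (g6el hF φ hφ 7))
    le_sup_left hMK (lift_le_Mn _) fun b hb => h8 (bEl_spec hF φ hφ hb).1
  rw [card_Mv hF] at this
  rw [(exists_hom_PSU hF φ hφ hF9 ψ hψ).1]
  omega

include hF in
/-- The centraliser of the even monomial group is scalar. -/
theorem scalar_of_comm_Mv {g : S6 F} (h : ∀ m ∈ Mv F, g * m = m * g) : g ∈ Z6 F := by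
  have hD : g ∈ Dg F := diag_of_commutes hF fun d hd => h d (Dg_le_lift _ hd)
  refine mem_Z6_of_const hD fun i => ?_
  have hw := wperm_zero i
  simp only [List.any_eq_true, List.mem_range, decide_eq_true_eq] at hw
  obtain ⟨n, hn, hi⟩ := hw
  set p := wperm (permWords.getD n [])
  have hp : p ∈ alternatingGroup (Fin 6) := by
    have hs := List.all_eq_true.1 permWords_ok.2.2 n (List.mem_range.2 hn)
    exact Equiv.Perm.mem_alternatingGroup.2 (beq_iff_eq.1 hs)
  have hm : pEl hF p ∈ Mv F := mem_lift.2 ⟨p, hp, mon_pEl hF p⟩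
  have := ent_conj_Dg (mon_pEl hF p) hD 0
  rw [← h _ hm, mul_inv_cancel_right, hi] at this
  exact this

end Cfsg.Agent.SUSixUFour
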