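import Cfsg.Agent.Lib.SUSixUFour.Twist

/-!
# Subgroups of order 34992 in the normaliser of the first central 3-element

* `tEl`, `sEl` : the two normalising monomial elements
* `exists_qk_mem` : such a subgroup contains one of three elements
* `card_X1` : the normaliser in the model has order 34992
-/

set_option autoImplicit false
set_option maxRecDepth 100000

open scoped Matrix

namespace Cfsg.Agent.SUSixUFour

open StabCert Cert Cfsg.Agent.Unitary Cfsg.Agent.U62Cover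

variable {F : Type} [Field F] [Fintype F] (hF : Fintype.card F = 4)
variable (φ : M4 →+* F) (hφ : ∀ z, φ (star z) = φ z ^ 2)

omit [Fintype F] in
theorem Z0_const [Fintype F] {z : S6 F} (hz : z ∈ Z0 F) (a b : Fin 6) (hab : a.val < 3 ↔ b.val < 3) :
    ent z a a = ent z b b := by
  obtain ⟨-, h1, h2, h4, h5⟩ := hz
  have e : ∀ i : Fin 6, ent z i i = if i.val < 3 then ent z 0 0 else ent z 3 3 := by
    intro i
    fin_cases i
    · rfl
    · exact h1
    · exact h2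
    · rfl
    · exact h4
    · exact h5
  rw [e a, e b]
  by_cases h : a.val < 3
  · rw [if_pos h, if_pos (hab.1 h)]
  · rw [if_neg h, if_neg (fun hh => h (hab.2 hh))]

theorem card_Z0_le (hF : Fintype.card F = 4) : Nat.card (Z0 F) ≤ 9 := by
  let f : Z0 F → {x : F // x ≠ 0} × {x : F // x ≠ 0} := fun g =>
    (⟨_, Dg_ne g.2.1 0⟩, ⟨_, Dg_ne g.2.1 3⟩)
  refine (Nat.card_le_card_of_injective f fun x y e => Subtype.ext ?_).trans
    (by rw [Nat.card_prod, card_ne_zero hF])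
  simp only [f, Prod.mk.injEq, Subtype.mk.injEq] at e
  refine Dg_ext x.2.1 y.2.1 fun i => ?_
  by_cases h : i.val < 3
  · rw [Z0_const x.2 i 0 (iff_of_true h (by decide)), Z0_const y.2 i 0 (iff_of_true h (by decide))]
    exact e.1
  · rw [Z0_const x.2 i 3 (iff_of_false h (by decide)), Z0_const y.2 i 3 (iff_of_false h (by decide))]
    exact e.2

omit [Fintype F] in
theorem lift_le_B0 [Fintype F] : lift G36 ≤ B0 F := by
  intro g hg
  obtain ⟨p, hp, h⟩ := mem_lift.1 hg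
  refine mem_B0_of fun z hz => ?_
  have hd : g * z * g⁻¹ ∈ Dg F := Dg_normal ⟨p, h⟩ hz.1
  have e : ∀ a b : Fin 6, (a.val < 3 ↔ b.val < 3) →
      ent (g * z * g⁻¹) a a = ent (g * z * g⁻¹) b b := by
    intro a b hab
    obtain ⟨a', rfl⟩ := p.surjective a
    obtain ⟨b', rfl⟩ := p.surjective b
    rw [ent_conj_Dg h hz.1, ent_conj_Dg h hz.1]
    refine Z0_const hz a' b' ?_
    have := (G36.inv_mem hp).2 (p a') (p b') hab
    simpa using this
  exact ⟨hd, e 1 0 (by decide), e 2 0 (by decide), e 4 3 (by decide), e 5 3 (by decide)⟩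

include hF in
theorem card_M0 : 8748 ≤ Nat.card ↥(Mv F ⊓ B0 F) := by
  haveI := finite_S6 (F := F)
  have hle : lift (F := F) G36 ≤ Mv F ⊓ B0 F :=
    le_inf (lift_mono fun p hp => hp.1) lift_le_B0
  refine le_trans ?_ (Subgroup.card_le_of_le hle)
  rw [card_lift hF]
  have := card_G36
  omega

/-- The diagonal normalising element. -/
noncomputable def tEl : S6 F := elOf hF φ hφ (dgm [1, 1, 2, 1, 1, 3])

/-- The permutation normalising element. -/
noncomputable def sEl : S6 F := elOf hF φ hφ (pgm [4, 3, 5, 0, 1, 2])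

theorem tEl_mem : tEl hF φ hφ ∈ Mv F ⊓ B0 F := by
  have hD : tEl hF φ hφ ∈ Dg F := mem_Dg.2 fun i j h => by
    rw [tEl, elOf_ent hF φ hφ local_ok.1, dgm, Matrix.of_apply, if_neg h, map_zero]
  exact ⟨Dg_le_lift _ hD, lift_le_B0 (Dg_le_lift _ hD)⟩

theorem sEl_mem : sEl hF φ hφ ∈ Mv F ⊓ B0 F := by
  have h : ∀ i j, i ≠ pS j → ent (sEl hF φ hφ) i j = 0 := fun i j h => by
    rw [sEl, elOf_ent hF φ hφ local_ok.2, pgm_ent φ _ pS g36_ok.2.2, if_neg h]
  have hp : pS ∈ G36 := by simpa [g36] using g36_mem (n := 1) (by norm_num)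
  exact ⟨mem_lift.2 ⟨pS, hp.1, h⟩, lift_le_B0 (mem_lift.2 ⟨pS, hp, h⟩)⟩

theorem conj_tEl (i j : Fin 8) : tEl hF φ hφ * qe2 hF φ hφ (i, j) * (tEl hF φ hφ)⁻¹ =
    qe2 hF φ hφ (qt i, qt' j) := by
  have hc := List.all_eq_true.1 qdiag_ok
  simp only [Bool.and_eq_true, matB_spec] at hc
  obtain ⟨⟨⟨⟨⟨hL, -⟩, -⟩, -⟩, -⟩, -⟩ := hc i (List.mem_finRange i)
  obtain ⟨⟨⟨⟨⟨-, hR⟩, -⟩, -⟩, -⟩, -⟩ := hc j (List.mem_finRange j)
  have eL : tEl hF φ hφ * qL hF φ hφ i = qL hF φ hφ (qt i) * tEl hF φ hφ := mx_ext (by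
    rw [mx_mul, mx_mul, mx_qL, mx_qL, tEl, mx_elOf hF φ hφ local_ok.1, ← Matrix.map_mul, hL,
      Matrix.map_mul])
  have eR : tEl hF φ hφ * qR hF φ hφ j = qR hF φ hφ (qt' j) * tEl hF φ hφ := mx_ext (by
    rw [mx_mul, mx_mul, mx_qR, mx_qR, tEl, mx_elOf hF φ hφ local_ok.1, ← Matrix.map_mul, hR,
      Matrix.map_mul])
  rw [mul_inv_eq_iff_eq_mul, qe2, qe2, ← mul_assoc, eL, mul_assoc, eR, mul_assoc]

theorem conj_sEl (i j : Fin 8) : sEl hF φ hφ * qe2 hF φ hφ (i, j) * (sEl hF φ hφ)⁻¹ =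
    qe2 hF φ hφ (j, i) := by
  have hc := List.all_eq_true.1 qdiag_ok
  simp only [Bool.and_eq_true, matB_spec] at hc
  obtain ⟨⟨-, hL⟩, -⟩ := hc i (List.mem_finRange i)
  obtain ⟨-, hR⟩ := hc j (List.mem_finRange j)
  have eL : sEl hF φ hφ * qL hF φ hφ i = qR hF φ hφ i * sEl hF φ hφ := mx_ext (by
    rw [mx_mul, mx_mul, mx_qL, mx_qR, sEl, mx_elOf hF φ hφ local_ok.2, ← Matrix.map_mul, hL,
      Matrix.map_mul])
  have eR : sEl hF φ hφ * qR hF φ hφ j = qL hF φ hφ j * sEl hF φ hφ := mx_ext (by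
    rw [mx_mul, mx_mul, mx_qR, mx_qL, sEl, mx_elOf hF φ hφ local_ok.2, ← Matrix.map_mul, hR,
      Matrix.map_mul])
  rw [mul_inv_eq_iff_eq_mul, qe2, qe2, ← mul_assoc, eL, mul_assoc, eR, ← mul_assoc,
    ← (qrel hF φ hφ j i).2.2.1]

theorem qclose_mem {P : Subgroup (S6 F)} (hM : Mv F ⊓ B0 F ≤ P) (h11 : qe2 hF φ hφ (1, 1) ∈ P)
    {q : Fin 8 × Fin 8} (hq : qe2 hF φ hφ q ∈ P) : ∀ r ∈ qclose q, qe2 hF φ hφ r ∈ P := by
  have step : ∀ l : List (Fin 8 × Fin 8), (∀ r ∈ l, qe2 hF φ hφ r ∈ P) →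
      ∀ r ∈ qstep l, qe2 hF φ hφ r ∈ P := by
    intro l hl r hr
    simp only [qstep, List.mem_dedup, List.mem_append, List.mem_map, List.mem_flatMap] at hr
    have ht := hM (tEl_mem hF φ hφ)
    have hs := hM (sEl_mem hF φ hφ)
    rcases hr with ((h | ⟨a, ha, rfl⟩) | ⟨a, ha, rfl⟩) | ⟨a, ha, b, hb, rfl⟩
    · exact hl r h
    · rw [← conj_tEl]; exact mul_mem (mul_mem ht (hl a ha)) (inv_mem ht)
    · rw [← conj_sEl]; exact mul_mem (mul_mem hs (hl a ha)) (inv_mem hs)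
    · rw [← qe2_mul]; exact mul_mem (hl a ha) (hl b hb)
  have h0 : ∀ r ∈ [q, (0, 0), (1, 1)].dedup, qe2 hF φ hφ r ∈ P := by
    intro r hr
    simp only [List.mem_dedup, List.mem_cons, List.not_mem_nil, or_false] at hr
    rcases hr with rfl | rfl | rfl
    · exact hq
    · rw [qe2_one]; exact one_mem _
    · exact h11
  intro r hr
  unfold qclose at hr
  simp only at hr
  split_ifs at hr
  · exact step _ h0 r hr
  · exact step _ (step _ h0) r hr
  · exact step _ (step _ (step _ h0)) r hr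

theorem qblk_zero_pattern (q : Fin 8 × Fin 8) (a b : Fin 6) (h : a.val < 3 ↔ ¬ b.val < 3) :
    ent (qe2 hF φ hφ q) a b = 0 := by
  show mx (qe2 hF φ hφ q) a b = 0
  rw [qe2, mx_mul, mx_qL, mx_qR, Matrix.mul_apply]
  refine Finset.sum_eq_zero fun c _ => ?_
  rw [Matrix.map_apply, Matrix.map_apply]
  by_cases hc : a.val < 3 ↔ c.val < 3
  · rw [show qRm q.2 c b = 0 by
      rw [qRm, Matrix.of_apply, if_neg (by omega), if_neg (by rintro rfl; omega)], map_zero, mul_zero]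
  · rw [show qLm q.1 a c = 0 by
      rw [qLm, Matrix.of_apply, if_neg (by omega), if_neg (by rintro rfl; omega)], map_zero, zero_mul]

theorem QQ_le_B0 : QQ hF φ hφ ≤ B0 F := by
  rintro _ ⟨q, rfl⟩
  refine mem_B0_of fun z hz => ?_
  suffices h : qe2 hF φ hφ q * z = z * qe2 hF φ hφ q by rwa [h, mul_inv_cancel_right]
  refine ext_ent fun i j => ?_
  rw [ent_mul_mon (r := 1) (fun a b h => mem_Dg.1 hz.1 a b h) i j, Equiv.Perm.one_apply, ent_mul,
    Finset.sum_eq_single i (fun b _ hb => by rw [mem_Dg.1 hz.1 i b (Ne.symm hb), zero_mul])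
      fun h => absurd (Finset.mem_univ _) h]
  by_cases h : i.val < 3 ↔ j.val < 3
  · rw [Z0_const hz i j h, mul_comm]
  · rw [qblk_zero_pattern hF φ hφ q i j (by omega), zero_mul, mul_zero]

theorem card_inf_two : Nat.card ↥((Mv F ⊓ B0 F) ⊓ QQ hF φ hφ) ≤ 2 := by
  classical
  haveI := finite_S6 (F := F)
  let f : ↥((Mv F ⊓ B0 F) ⊓ QQ hF φ hφ) → Bool := fun x => decide ((x : S6 F) = 1)
  have key : ∀ x : ↥((Mv F ⊓ B0 F) ⊓ QQ hF φ hφ), (x : S6 F) = 1 ∨ (x : S6 F) = qe2 hF φ hφ (1, 1) := by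
    intro x
    obtain ⟨q, hq⟩ := x.2.2
    have h := x.2.1.1
    rw [← hq] at h ⊢
    rcases QQ_inf_Mv hF φ hφ h with rfl | rfl
    · exact Or.inl (qe2_one hF φ hφ)
    · exact Or.inr rfl
  have hinj : Function.Injective f := by
    intro x y e
    simp only [f, decide_eq_decide] at e
    refine Subtype.ext ?_
    rcases key x with hx | hx <;> rcases key y with hy | hy
    · rw [hx, hy]
    · rw [hx, e.1 hx]
    · rw [hy, e.2 hy]
    · rw [hx, hy]
  have := Nat.card_le_card_of_injective f hinj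
  simpa using this

theorem card_PQ {P : Subgroup (S6 F)} (hM : Mv F ⊓ B0 F ≤ P) (hP : P ≤ B0 F) :
    8748 * Nat.card ↥(P ⊓ QQ hF φ hφ) ≤ Nat.card P * 2 ∧
      Nat.card P * 64 ≤ 279936 * Nat.card ↥(P ⊓ QQ hF φ hφ) := by
  haveI := finite_S6 (F := F)
  constructor
  · have h := card_mul_card_le (H := Mv F ⊓ B0 F) (K := P ⊓ QQ hF φ hφ) hM inf_le_left
    refine le_trans (le_trans (Nat.mul_le_mul_right _ (card_M0 hF)) h) (Nat.mul_le_mul_left _ ?_)
    refine le_trans ?_ (card_inf_two hF φ hφ)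
    exact Subgroup.card_le_of_le (inf_le_inf_left _ inf_le_right)
  · have h := card_mul_card_le (H := P) (K := QQ hF φ hφ) hP (QQ_le_B0 hF φ hφ)
    rw [card_QQ] at h
    exact h.trans (Nat.mul_le_mul_right _ (card_B0_le hF))

theorem le_card_of_nodup {P : Subgroup (S6 F)} (l : List (Fin 8 × Fin 8)) (hn : l.Nodup)
    (h : ∀ r ∈ l, qe2 hF φ hφ r ∈ P) : l.length ≤ Nat.card ↥(P ⊓ QQ hF φ hφ) := by
  haveI := finite_S6 (F := F)
  let f : Fin l.length → ↥(P ⊓ QQ hF φ hφ) := fun i =>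
    ⟨qe2 hF φ hφ l[i], h _ (List.getElem_mem _), ⟨_, rfl⟩⟩
  have hinj : Function.Injective f := fun i j e =>
    Fin.ext ((hn.getElem_inj_iff).1 (qe2_injective hF φ hφ (congrArg Subtype.val e)))
  simpa using Nat.card_le_card_of_injective f hinj

/-- A subgroup of order 34992 of the normaliser containing the monomial part. -/
theorem exists_qk_mem {P : Subgroup (S6 F)} (hM : Mv F ⊓ B0 F ≤ P) (hP : P ≤ B0 F)
    (hc : Nat.card P = 34992) : ∃ k < 3, qe2 hF φ hφ (2, qt^[k] 6) ∈ P := by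
  classical
  haveI := finite_S6 (F := F)
  obtain ⟨h1, h2⟩ := card_PQ hF φ hφ hM hP
  rw [hc] at h1 h2
  have h8 : Nat.card ↥(P ⊓ QQ hF φ hφ) = 8 := by omega
  have h11 : qe2 hF φ hφ (1, 1) ∈ P :=
    hM ⟨tt_mem_Mv hF φ hφ, QQ_le_B0 hF φ hφ ⟨_, rfl⟩⟩
  obtain ⟨q, hq, hq2⟩ : ∃ q, qe2 hF φ hφ q ∈ P ∧ ¬ (q.1.val < 2 ∧ q.2.val < 2) := by
    by_contra hh
    push Not at hh
    let f : ↥(P ⊓ QQ hF φ hφ) → Fin 2 × Fin 2 := fun x =>
      (⟨x.2.2.choose.1.val, (hh _ (by rw [x.2.2.choose_spec]; exact x.2.1)).1⟩,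
        ⟨x.2.2.choose.2.val, (hh _ (by rw [x.2.2.choose_spec]; exact x.2.1)).2⟩)
    have hinj : Function.Injective f := by
      intro x y e
      simp only [f, Prod.mk.injEq, Fin.mk.injEq] at e
      refine Subtype.ext ?_
      rw [← x.2.2.choose_spec, ← y.2.2.choose_spec]
      exact congrArg _ (Prod.ext (Fin.ext e.1) (Fin.ext e.2))
    have := Nat.card_le_card_of_injective f hinj
    rw [h8] at this
    simp at this
  have hmem := qclose_mem hF φ hφ hM h11 hq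
  have hcl := List.all_eq_true.1 (List.all_eq_true.1 qclass_ok q.1 (List.mem_finRange _)) q.2
    (List.mem_finRange _)
  simp only [Bool.or_eq_true, Bool.and_eq_true, decide_eq_true_eq, Nat.blt_eq, List.any_eq_true,
    List.mem_range] at hcl
  rcases hcl with (h | h) | ⟨r, hr, k, hk, rfl⟩
  · exact absurd h hq2
  · have hn : (qclose (q.1, q.2)).Nodup := by
      unfold qclose
      simp only
      split_ifs <;> exact List.nodup_dedup _
    have := le_card_of_nodup hF φ hφ _ hn hmem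
    omega
  · exact ⟨k, hk, hmem _ hr⟩

variable {F9 : Type} [Field F9] [Fintype F9] (hF9 : Fintype.card F9 = 3 ^ 2) (ψ : M9 →+* F9)
  (hψ : ∀ z, ψ (star z) = ψ z ^ 3)
include hF9 hψ

theorem card_X1 : Nat.card ↥(K1 hF φ hφ ⊓ B0 F) = 34992 := by
  haveI := finite_S6 (F := F)
  set X := K1 hF φ hφ ⊓ B0 F
  have hM : Mv F ⊓ B0 F ≤ X := inf_le_inf_right _ (Mv_le_K1 hF φ hφ hF9 ψ hψ)
  obtain ⟨h1, h2⟩ := card_PQ hF φ hφ hM inf_le_right
  have hq : qe2 hF φ hφ (2, 6) ∈ X :=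
    ⟨by rw [(qswap hF φ hφ).2.2]; exact g6el_mem hF φ hφ (by norm_num), QQ_le_B0 hF φ hφ ⟨_, rfl⟩⟩
  have h11 : qe2 hF φ hφ (1, 1) ∈ X := hM ⟨tt_mem_Mv hF φ hφ, QQ_le_B0 hF φ hφ ⟨_, rfl⟩⟩
  have hge := le_card_of_nodup hF φ hφ _ qclose_q0.1 (qclose_mem hF φ hφ hM h11 hq)
  rw [qclose_q0.2] at hge
  have hle : Nat.card ↥(X ⊓ QQ hF φ hφ) ≤ 8 := by
    let f : ↥(X ⊓ QQ hF φ hφ) → Fin 8 := fun x => x.2.2.choose.1
    have hinj : Function.Injective f := by
      intro x y e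
      refine Subtype.ext ?_
      obtain ⟨ex, ey⟩ := And.intro x.2.2.choose_spec y.2.2.choose_spec
      revert ex ey
      generalize hp : x.2.2.choose = p, hr : y.2.2.choose = r
      intro ex ey
      simp only [f, hp, hr] at e
      obtain ⟨i, j⟩ := p
      obtain ⟨i', l⟩ := r
      subst e
      obtain ⟨u, hu1, hu2⟩ := qinv_ok i
      obtain ⟨v, hv1, hv2⟩ := qinv_ok j
      have hm : qe2 hF φ hφ (u, v) * qe2 hF φ hφ (i, l) ∈ K1 hF φ hφ := by
        have hx : qe2 hF φ hφ (u, v) = (qe2 hF φ hφ (i, j))⁻¹ :=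
          eq_inv_of_mul_eq_one_left (by rw [qe2_mul, hu2, hv2, qe2_one])
        rw [hx, ex, ey]
        exact mul_mem (inv_mem x.2.1.1) y.2.1.1
      rw [qe2_mul, hu2] at hm
      have hz := qR_mem_K1 hF φ hφ hF9 ψ hψ hm
      have hcanc : ∀ v j l : Fin 8, qmul v j = 0 → qmul v l = 0 → j = l := by decide +kernel
      rw [← ex, ← ey, hcanc v j l hv2 hz]
    simpa using Nat.card_le_card_of_injective f hinj
  omega

end Cfsg.Agent.SUSixUFour
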