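import Cfsg.Agent.Lib.SUSixUFour.QChecks
import Cfsg.Agent.Lib.SUSixUFour.Frames

/-!
# The two quaternion blocks and the normaliser of the central 3-element

* `qL`, `qR`, `QQ` : the group of order 64
* `QQ_inf_Mv`, `closed_class` : monomial part and invariant subgroups
* `Z0`, `B0`, `card_B0_le` : the normaliser
-/

set_option autoImplicit false
set_option maxRecDepth 100000

open scoped Matrix

namespace Cfsg.Agent.SUSixUFour

open StabCert Cert Cfsg.Agent.Unitary Cfsg.Agent.U62Cover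

variable {F : Type} [Field F] [Fintype F] (hF : Fintype.card F = 4)
variable (φ : M4 →+* F) (hφ : ∀ z, φ (star z) = φ z ^ 2)

include hF in
/-- The element of a checked matrix over the model, or one. -/
noncomputable def elOf (U : Matrix (Fin 6) (Fin 6) M4) : S6 F :=
  if h : suOK U = true then suOf φ hφ (card_sq hF) U h else 1

theorem mx_elOf {U : Matrix (Fin 6) (Fin 6) M4} (h : suOK U = true) :
    mx (elOf hF φ hφ U) = U.map φ := by
  rw [elOf, dif_pos h]
  rfl

omit [Fintype F] in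
theorem mx_ext {g h : S6 F} (e : mx g = mx h) : g = h := Subtype.ext (Subtype.ext e)

theorem elOf_ent {U : Matrix (Fin 6) (Fin 6) M4} (h : suOK U = true) (i j : Fin 6) :
    ent (elOf hF φ hφ U) i j = φ (U i j) := congrFun (congrFun (mx_elOf hF φ hφ h) i) j

theorem qLm_su (i : Fin 8) : suOK (qLm i) = true ∧ suOK (qRm i) = true := by
  simpa using List.all_eq_true.1 qsu_ok i (List.mem_finRange i)

/-- An element of the first block. -/
noncomputable def qL (i : Fin 8) : S6 F := elOf hF φ hφ (qLm i)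

/-- An element of the second block. -/
noncomputable def qR (i : Fin 8) : S6 F := elOf hF φ hφ (qRm i)

theorem mx_qL (i : Fin 8) : mx (qL hF φ hφ i) = (qLm i).map φ := mx_elOf hF φ hφ (qLm_su i).1

theorem mx_qR (i : Fin 8) : mx (qR hF φ hφ i) = (qRm i).map φ := mx_elOf hF φ hφ (qLm_su i).2

theorem qrel (i j : Fin 8) : qL hF φ hφ i * qL hF φ hφ j = qL hF φ hφ (qmul i j) ∧
    qR hF φ hφ i * qR hF φ hφ j = qR hF φ hφ (qmul i j) ∧
    qL hF φ hφ i * qR hF φ hφ j = qR hF φ hφ j * qL hF φ hφ i ∧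
    (qL hF φ hφ i = qR hF φ hφ j → i = 0 ∧ j = 0) := by
  have h := List.all_eq_true.1 (List.all_eq_true.1 qmul_ok i (List.mem_finRange i)) j (List.mem_finRange j)
  simp only [Bool.and_eq_true, Bool.or_eq_true, matB_spec, decide_eq_true_eq, Bool.not_eq_true'] at h
  obtain ⟨⟨⟨h1, h2⟩, h3⟩, h4⟩ := h
  refine ⟨mx_ext ?_, mx_ext ?_, mx_ext ?_, fun e => ?_⟩
  · rw [mx_mul, mx_qL, mx_qL, mx_qL, ← Matrix.map_mul, h1]
  · rw [mx_mul, mx_qR, mx_qR, mx_qR, ← Matrix.map_mul, h2]
  · rw [mx_mul, mx_mul, mx_qL, mx_qR, ← Matrix.map_mul, ← Matrix.map_mul, h3]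
  · refine h4.resolve_left fun hne => ?_
    have e' := congrArg mx e
    rw [mx_qL, mx_qR] at e'
    have : qLm i = qRm j := Matrix.ext fun r c => phi_injective φ (congrFun (congrFun e' r) c)
    rw [matB_spec.2 this] at hne
    exact absurd hne (by simp)

theorem qblock_one (i : Fin 8) : (qLm i = 1 → qL hF φ hφ i = 1) ∧ (qRm i = 1 → qR hF φ hφ i = 1) := by
  refine ⟨fun e => mx_ext ?_, fun e => mx_ext ?_⟩
  · rw [mx_qL, e, mx_one, Matrix.map_one _ (map_zero φ) (map_one φ)]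
  · rw [mx_qR, e, mx_one, Matrix.map_one _ (map_zero φ) (map_one φ)]

theorem qL_zero : qL hF φ hφ 0 = 1 ∧ qR hF φ hφ 0 = 1 :=
  ⟨(qblock_one hF φ hφ 0).1 (matB_spec.1 (Bool.and_eq_true_iff.1 qone_ok).1),
    (qblock_one hF φ hφ 0).2 (matB_spec.1 (Bool.and_eq_true_iff.1 qone_ok).2)⟩

/-- The product of the two blocks. -/
noncomputable def qe2 (q : Fin 8 × Fin 8) : S6 F := qL hF φ hφ q.1 * qR hF φ hφ q.2

theorem qe2_mul (q r : Fin 8 × Fin 8) :
    qe2 hF φ hφ q * qe2 hF φ hφ r = qe2 hF φ hφ (qmul q.1 r.1, qmul q.2 r.2) := by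
  unfold qe2
  rw [mul_assoc, ← mul_assoc (qR hF φ hφ q.2), ← (qrel hF φ hφ r.1 q.2).2.2.1, mul_assoc,
    ← mul_assoc, (qrel hF φ hφ q.1 r.1).1, (qrel hF φ hφ q.2 r.2).2.1]

theorem qe2_one : qe2 hF φ hφ (0, 0) = 1 := by
  rw [qe2, (qL_zero hF φ hφ).1, (qL_zero hF φ hφ).2, one_mul]

theorem qe2_injective : Function.Injective (qe2 hF φ hφ) := by
  rintro ⟨i, j⟩ ⟨k, l⟩ e
  obtain ⟨k', hk1, hk2⟩ := qinv_ok k
  obtain ⟨j', hj1, hj2⟩ := qinv_ok j
  have e' := congrArg (fun x => qe2 hF φ hφ (k', 0) * x * qe2 hF φ hφ (0, j')) e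
  simp only [qe2_mul] at e'
  unfold qe2 at e'
  simp only [(qL_zero hF φ hφ).1, hk2] at e'
  have hz : ∀ x : Fin 8, qmul x 0 = x ∧ qmul 0 x = x := by decide +kernel
  simp only [(hz _).1, (hz _).2, hj1, hk2, (qL_zero hF φ hφ).1, (qL_zero hF φ hφ).2, mul_one,
    one_mul] at e'
  obtain ⟨h1, h2⟩ := (qrel hF φ hφ _ _).2.2.2 e'
  have u1 : ∀ a b c : Fin 8, qmul b a = 0 → qmul b c = 0 → a = c := by decide +kernel
  have u2 : ∀ a b c : Fin 8, qmul a b = 0 → qmul c b = 0 → a = c := by decide +kernel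
  exact Prod.ext (u1 i k' k h1 hk2) (u2 j j' l hj1 h2)

/-- The group of order 64. -/
noncomputable def QQ : Subgroup (S6 F) where
  carrier := Set.range (qe2 hF φ hφ)
  one_mem' := ⟨(0, 0), qe2_one hF φ hφ⟩
  mul_mem' := by
    rintro _ _ ⟨q, rfl⟩ ⟨r, rfl⟩
    exact ⟨_, (qe2_mul hF φ hφ q r).symm⟩
  inv_mem' := by
    rintro _ ⟨q, rfl⟩
    obtain ⟨a, ha, -⟩ := qinv_ok q.1
    obtain ⟨b, hb, -⟩ := qinv_ok q.2
    refine ⟨(a, b), eq_inv_of_mul_eq_one_right ?_⟩
    rw [qe2_mul, ha, hb, qe2_one]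

theorem card_QQ : Nat.card (QQ hF φ hφ) = 64 := by
  show Nat.card ↥(Set.range (qe2 hF φ hφ)) = 64
  rw [Nat.card_range_of_injective (qe2_injective hF φ hφ), Nat.card_prod, Nat.card_fin]

omit [Fintype F] in
theorem eqB_false {x : M4} (h : eqB x 0 = false) : φ x ≠ 0 := fun e => by
  rw [← map_zero φ] at e
  simp [eqB, phi_injective φ e] at h

theorem qe2_mon {q : Fin 8 × Fin 8} (h : qe2 hF φ hφ q ∈ Mn F) : q.1.val < 2 ∧ q.2.val < 2 := by
  have hc := List.all_eq_true.1 (List.all_eq_true.1 qmono_ok q.1 (List.mem_finRange _)) q.2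
    (List.mem_finRange _)
  simp only [Bool.or_eq_true, Bool.and_eq_true, decide_eq_true_eq, List.any_eq_true,
    Nat.ble_eq] at hc
  refine hc.resolve_right fun hh => ?_
  obtain ⟨c, -, h2⟩ := hh
  obtain ⟨p, hp⟩ := h
  have hle : ((List.finRange 6).countP fun r => !eqB ((qLm q.1 * qRm q.2) r c) 0) ≤ 1 := by
    rw [List.countP_eq_length_filter]
    have hsub : ∀ r ∈ (List.finRange 6).filter (fun r => !eqB ((qLm q.1 * qRm q.2) r c) 0), r = p c := by
      intro r hr
      simp only [List.mem_filter, Bool.not_eq_true'] at hr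
      by_contra hne
      refine eqB_false φ hr.2 ?_
      have := hp r c hne
      rw [show ent (qe2 hF φ hφ q) r c = mx (qe2 hF φ hφ q) r c from rfl, qe2, mx_mul, mx_qL,
        mx_qR, ← Matrix.map_mul] at this
      exact this
    have hn : ((List.finRange 6).filter fun r => !eqB ((qLm q.1 * qRm q.2) r c) 0).Nodup :=
      (List.nodup_finRange 6).filter _
    generalize (List.finRange 6).filter (fun r => !eqB ((qLm q.1 * qRm q.2) r c) 0) = l at hsub hn
    match l, hn with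
    | [], _ => simp
    | [_], _ => simp
    | a :: b :: _, hn =>
      have := hsub a List.mem_cons_self
      have := hsub b (List.mem_cons_of_mem _ List.mem_cons_self)
      simp_all
  omega

omit [Fintype F] in
theorem pgm_ent (l : List ℕ) (p : Equiv.Perm (Fin 6)) (hp : ∀ j : Fin 6, l.getD j.val 0 = (p j).val)
    (i j : Fin 6) : φ (pgm l i j) = if i = p j then 1 else 0 := by
  rw [pgm, Matrix.of_apply, hp, apply_ite φ, map_one, map_zero]
  simp [Fin.ext_iff]

theorem qblock_perm (i : Fin 8) (l : List ℕ) (p : Equiv.Perm (Fin 6))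
    (hp : ∀ j : Fin 6, l.getD j.val 0 = (p j).val) :
    (qLm i = pgm l → qL hF φ hφ i = pEl hF p) ∧ (qRm i = pgm l → qR hF φ hφ i = pEl hF p) := by
  refine ⟨fun e => ext_ent fun a b => ?_, fun e => ext_ent fun a b => ?_⟩
  · rw [qL, elOf_ent hF φ hφ (qLm_su i).1, e, pgm_ent φ _ p hp, ent_pEl]
  · rw [qR, elOf_ent hF φ hφ (qLm_su i).2, e, pgm_ent φ _ p hp, ent_pEl]

theorem qe2_eq_g6el (q : Fin 8 × Fin 8) (k : ℕ) (hk : k < 14) (e : qLm q.1 * qRm q.2 = m6 k) :
    qe2 hF φ hφ q = g6el hF φ hφ k := by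
  refine mx_ext ?_
  rw [qe2, mx_mul, mx_qL, mx_qR, ← Matrix.map_mul, e]
  ext i j
  exact (g6el_ent hF φ hφ hk i j).symm

theorem qswap : qL hF φ hφ 1 = pEl hF (Equiv.swap 0 1) ∧ qR hF φ hφ 1 = pEl hF (Equiv.swap 3 4) ∧
    qe2 hF φ hφ (2, 6) = g6el hF φ hφ 7 :=
  ⟨(qblock_perm hF φ hφ 1 [1, 0, 2, 3, 4, 5] (Equiv.swap 0 1) (by decide)).1
      (matB_spec.1 (Bool.and_eq_true_iff.1 (Bool.and_eq_true_iff.1 qswap_ok).1).1),
    (qblock_perm hF φ hφ 1 [0, 1, 2, 4, 3, 5] (Equiv.swap 3 4) (by decide)).2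
      (matB_spec.1 (Bool.and_eq_true_iff.1 (Bool.and_eq_true_iff.1 qswap_ok).1).2),
    qe2_eq_g6el hF φ hφ (2, 6) 7 (by norm_num) (matB_spec.1 (Bool.and_eq_true_iff.1 qswap_ok).2)⟩

theorem pEl_mem_Mv_iff (p : Equiv.Perm (Fin 6)) : pEl hF p ∈ Mv F ↔ Equiv.Perm.sign p = 1 := by
  constructor
  · intro h
    obtain ⟨r, hr, hr'⟩ := mem_lift.1 h
    rw [Mon.unique (mon_pEl hF p) hr']
    exact hr
  · exact fun h => mem_lift.2 ⟨p, h, mon_pEl hF p⟩

theorem QQ_inf_Mv_aux (i j : Fin 8) (hi : i = 0 ∨ i = 1) (hj : j = 0 ∨ j = 1)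
    (h : qe2 hF φ hφ (i, j) ∈ Mv F) : i = j := by
  obtain ⟨z1, z2⟩ := qL_zero hF φ hφ
  obtain ⟨s1, s2, -⟩ := qswap hF φ hφ
  unfold qe2 at h
  simp only at h
  have hsgn : ∀ a b : Fin 6, a ≠ b → pEl hF (Equiv.swap a b) ∉ Mv F := fun a b hab hm => by
    rw [pEl_mem_Mv_iff hF, Equiv.Perm.sign_swap hab] at hm
    exact absurd hm (by decide)
  by_contra hne
  rcases hi with ei | ei <;> rcases hj with ej | ej
  · exact hne (ei.trans ej.symm)
  · rw [show qL hF φ hφ i = 1 from ei ▸ z1, one_mul,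
      show qR hF φ hφ j = pEl hF (Equiv.swap 3 4) from ej ▸ s2] at h
    exact hsgn 3 4 (by decide) h
  · rw [show qR hF φ hφ j = 1 from ej ▸ z2, mul_one,
      show qL hF φ hφ i = pEl hF (Equiv.swap 0 1) from ei ▸ s1] at h
    exact hsgn 0 1 (by decide) h
  · exact hne (ei.trans ej.symm)

theorem QQ_inf_Mv {q : Fin 8 × Fin 8} (h : qe2 hF φ hφ q ∈ Mv F) : q = (0, 0) ∨ q = (1, 1) := by
  obtain ⟨i, j⟩ := q
  obtain ⟨hi, hj⟩ := qe2_mon hF φ hφ (lift_le_Mn _ h)
  have h2 : ∀ a : Fin 8, a.val < 2 → a = 0 ∨ a = 1 := by decide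
  have e := QQ_inf_Mv_aux hF φ hφ i j (h2 i hi) (h2 j hj) h
  subst e
  rcases h2 i hi with rfl | rfl
  · exact Or.inl rfl
  · exact Or.inr rfl

theorem tt_mem_Mv : qe2 hF φ hφ (1, 1) ∈ Mv F := by
  obtain ⟨s1, s2, -⟩ := qswap hF φ hφ
  rw [qe2, s1, s2]
  refine mem_lift.2 ⟨Equiv.swap 0 1 * Equiv.swap 3 4, ?_, mon_mul (mon_pEl hF _) (mon_pEl hF _)⟩
  exact Equiv.Perm.mem_alternatingGroup.2 (by decide +kernel)

/-- The subgroup of the first central 3-element. -/
noncomputable def Z0 (F : Type) [Field F] [Fintype F] : Subgroup (S6 F) where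
  carrier := {g | g ∈ Dg F ∧ ent g 1 1 = ent g 0 0 ∧ ent g 2 2 = ent g 0 0 ∧
    ent g 4 4 = ent g 3 3 ∧ ent g 5 5 = ent g 3 3}
  one_mem' := ⟨one_mem _, by simp [ent_one]⟩
  mul_mem' := fun {a b} ha hb => by
    have e : ∀ i, ent (a * b) i i = ent a i i * ent b i i := fun i =>
      ent_mul_mon (r := 1) (fun u v h => mem_Dg.1 hb.1 u v h) i i
    exact ⟨mul_mem ha.1 hb.1, by rw [e, e, ha.2.1, hb.2.1], by rw [e, e, ha.2.2.1, hb.2.2.1],
      by rw [e, e, ha.2.2.2.1, hb.2.2.2.1], by rw [e, e, ha.2.2.2.2, hb.2.2.2.2]⟩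
  inv_mem' := fun {a} ha => by
    have hD := inv_mem ha.1
    have e : ∀ i, ent a⁻¹ i i = (ent a i i)⁻¹ := fun i => by
      refine eq_inv_of_mul_eq_one_left ?_
      have e := ent_mul_mon (g := a⁻¹) (h := a) (r := 1) (fun u v h => mem_Dg.1 ha.1 u v h) i i
      rw [Equiv.Perm.one_apply, inv_mul_cancel, ent_one, if_pos rfl] at e
      exact e.symm
    exact ⟨hD, by rw [e, e, ha.2.1], by rw [e, e, ha.2.2.1], by rw [e, e, ha.2.2.2.1],
      by rw [e, e, ha.2.2.2.2]⟩

/-- The normaliser. -/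
noncomputable def B0 (F : Type) [Field F] [Fintype F] : Subgroup (S6 F) :=
  Subgroup.normalizer (Z0 F : Set (S6 F))

theorem mem_B0_of {g : S6 F} (h : ∀ z ∈ Z0 F, g * z * g⁻¹ ∈ Z0 F) : g ∈ B0 F := by
  haveI := finite_S6 (F := F)
  have hle : (Z0 F).map (MulAut.conj g).toMonoidHom ≤ Z0 F := by
    rintro _ ⟨z, hz, rfl⟩
    exact h z hz
  have heq := Subgroup.eq_of_le_of_card_ge hle
    (Subgroup.card_map_of_injective (MulAut.conj g).injective).ge
  refine Subgroup.mem_normalizer_iff.2 fun z => ⟨fun hz => h z hz, fun hz => ?_⟩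
  have hm : g * z * g⁻¹ ∈ (Z0 F).map (MulAut.conj g).toMonoidHom := by rw [heq]; exact hz
  obtain ⟨y, hy, e⟩ := Subgroup.mem_map.1 hm
  have : y = z := (MulAut.conj g).injective e
  exact this ▸ hy

include hF in
theorem exists_z0 : ∃ w : F, w ≠ 0 ∧ w ≠ 1 ∧ ∃ z ∈ Z0 F, ∀ i : Fin 6,
    ent z i i = if i.val < 3 then w else 1 := by
  obtain ⟨w, hw0, hw⟩ := exists_omega hF
  have hw1 : w ≠ 1 := by rintro rfl; exact one_ne_zero (by linear_combination -hw)
  let d : Fin 6 → F := fun i => if i.val < 3 then w else 1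
  have h0 : ∀ i, d i ≠ 0 := fun i => by simp only [d]; split_ifs <;> simp [hw0]
  have h1 : ∏ i, d i = 1 := by
    rw [Fin.prod_univ_six]
    show w * w * w * 1 * 1 * 1 = 1
    rw [mul_one, mul_one, mul_one]
    linear_combination U62Cover.pow_three hF hw0
  refine ⟨w, hw0, hw1, dEl hF d h0 h1, ⟨dEl_mem hF d h0 h1, ?_⟩, fun i => ?_⟩
  · simp [ent_dEl, d]
  · rw [ent_dEl, if_pos rfl]

/-- The permutation exchanging the triples. -/
def sw : Equiv.Perm (Fin 6) := Equiv.swap 0 3 * Equiv.swap 1 4 * Equiv.swap 2 5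

omit [Fintype F] in
theorem det_ne {g : S6 F} {j : Fin 6} (h : ∀ i, ent g i j = 0) : False := by
  have := g.1.2
  erw [Matrix.det_eq_zero_of_column_eq_zero j h] at this
  exact zero_ne_one this

include hF in
theorem B0_shape {g : S6 F} (hg : g ∈ B0 F) :
    (∀ i j : Fin 6, (i.val < 3 ↔ ¬ j.val < 3) → ent g i j = 0) ∨
      (∀ i j : Fin 6, (i.val < 3 ↔ j.val < 3) → ent g i j = 0) := by
  obtain ⟨w, hw0, hw1, z, hz, hze⟩ := exists_z0 hF
  have hy := (Subgroup.mem_normalizer_iff.1 hg z).1 hz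
  obtain ⟨y, hyd⟩ : ∃ y, y = g * z * g⁻¹ := ⟨_, rfl⟩
  rw [← hyd] at hy
  have heq : ∀ i j, ent g i j * ent z j j = ent y i i * ent g i j := by
    intro i j
    have e1 := ent_mul_mon (g := g) (h := z) (r := 1) (fun a b h => mem_Dg.1 hz.1 a b h) i j
    rw [Equiv.Perm.one_apply] at e1
    have e2 : g * z = y * g := by rw [hyd, inv_mul_cancel_right]
    rw [e2, ent_mul, Finset.sum_eq_single i (fun b _ hb => by rw [mem_Dg.1 hy.1 i b (Ne.symm hb), zero_mul])
      fun h => absurd (Finset.mem_univ _) h] at e1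
    exact e1.symm
  obtain ⟨hy1, hy2, hy4, hy5⟩ := hy.2
  set x := ent y 0 0
  set u := ent y 3 3
  have hval : ∀ i : Fin 6, ent y i i = if i.val < 3 then x else u := by
    intro i
    fin_cases i
    · rfl
    · exact hy1
    · exact hy2
    · rfl
    · exact hy4
    · exact hy5
  have key : ∀ i j : Fin 6, ent g i j ≠ 0 →
      (if i.val < 3 then x else u) = (if j.val < 3 then w else 1) := by
    intro i j hne
    have := heq i j
    rw [hval, hze, mul_comm] at this
    exact (mul_right_cancel₀ hne this).symm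
  by_cases hx : x = w
  · left
    have hu : u ≠ w := by
      intro hu
      refine det_ne (g := g) (j := 3) fun i => by_contra fun hne => hw1 ?_
      have := key i 3 hne
      rw [if_neg (show ¬ (3 : Fin 6).val < 3 by decide)] at this
      split_ifs at this
      · exact hx ▸ this
      · exact hu ▸ this
    intro i j hij
    by_contra hne
    have := key i j hne
    by_cases hi : i.val < 3
    · rw [if_pos hi, if_neg (hij.1 hi)] at this
      exact hw1 (hx ▸ this)
    · have hj : j.val < 3 := by by_contra hj; exact hi (hij.2 hj)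
      rw [if_neg hi, if_pos hj] at this
      exact hu this
  · right
    obtain ⟨i0, hi0⟩ : ∃ i : Fin 6, ent g i 0 ≠ 0 := by
      by_contra hh
      push Not at hh
      exact det_ne hh
    have hu : u = w := by
      have := key i0 0 hi0
      rw [if_pos (show (0 : Fin 6).val < 3 by decide)] at this
      split_ifs at this
      · exact absurd this hx
      · exact this
    intro i j hij
    by_contra hne
    have := key i j hne
    by_cases hi : i.val < 3
    · rw [if_pos hi, if_pos (hij.1 hi)] at this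
      exact hx this
    · rw [if_neg hi, if_neg (fun h => hi (hij.2 h))] at this
      exact hw1 (hu ▸ this)

include hF in
theorem card_B0_le : Nat.card (B0 F) ≤ 279936 := by
  classical
  haveI := finite_S6 (F := F)
  let P : S6 F := pEl hF sw
  let nb : S6 F → Bool := fun g => decide (∀ i j : Fin 6, (i.val < 3 ↔ ¬ j.val < 3) → ent g i j = 0)
  let nm : S6 F → S6 F := fun g => if nb g then g else g * P
  have hnm : ∀ g ∈ B0 F, ∀ i j : Fin 6, (i.val < 3 ↔ ¬ j.val < 3) → ent (nm g) i j = 0 := by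
    intro g hg i j hij
    by_cases h : nb g = true
    · simp only [nm, if_pos h]
      exact of_decide_eq_true h i j hij
    · simp only [nm, if_neg h]
      have h2 := (B0_shape hF hg).resolve_left fun hd => h (decide_eq_true hd)
      rw [ent_mul_mon (mon_pEl hF sw) i j, h2 i (sw j) ?_, zero_mul]
      have : ∀ a : Fin 6, ((sw a).val < 3 ↔ ¬ a.val < 3) := by decide +kernel
      rw [this j]
      exact hij
  let up : Fin 3 → Fin 6 := fun i => ⟨i.val, by omega⟩
  let dn : Fin 3 → Fin 6 := fun i => ⟨i.val + 3, by omega⟩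
  let AA : S6 F → Matrix (Fin 3) (Fin 3) F := fun g => Matrix.of fun i j => ent g (up i) (up j)
  let BB : S6 F → Matrix (Fin 3) (Fin 3) F := fun g => Matrix.of fun i j => ent g (dn i) (dn j)
  have hblk : ∀ g : B0 F, IsUnitary 2 (AA (nm g)) ∧ IsUnitary 2 (BB (nm g)) ∧
      (AA (nm g)).det * (BB (nm g)).det = 1 := by
    intro g
    have hz := hnm g g.2
    obtain ⟨M, hM⟩ : ∃ M, M = nm (g : S6 F) := ⟨_, rfl⟩
    rw [← hM] at hz ⊢
    have hb := (isUnitary_iff_orthonormal (card_sq hF) (mx M)).1 M.2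
    have z1 : ∀ i j : Fin 3, ent M (dn i) (up j) = 0 := fun i j => hz _ _ (by simp [dn, up])
    have z2 : ∀ i j : Fin 3, ent M (up i) (dn j) = 0 := fun i j => hz _ _ (by simp [dn, up])
    have hsum : ∀ f : Fin 6 → F, ∑ k, f k = (∑ k, f (up k)) + ∑ k, f (dn k) := fun f => by
      rw [Fin.sum_univ_six, Fin.sum_univ_three, Fin.sum_univ_three]
      show _ = (f 0 + f 1 + f 2) + (f 3 + f 4 + f 5)
      ring
    have hA : ∀ i j : Fin 3, Cfsg.hermForm 3 F 2 ((AA M)ᵀ i) ((AA M)ᵀ j) =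
        Cfsg.hermForm 6 F 2 ((mx M)ᵀ (up i)) ((mx M)ᵀ (up j)) := fun i j => by
      simp only [Cfsg.hermForm, Matrix.transpose_apply]
      rw [hsum]
      simp only [show ∀ k, mx M (dn k) (up i) = 0 from fun k => z1 k i, zero_mul,
        Finset.sum_const_zero, add_zero]
      rfl
    have hB : ∀ i j : Fin 3, Cfsg.hermForm 3 F 2 ((BB M)ᵀ i) ((BB M)ᵀ j) =
        Cfsg.hermForm 6 F 2 ((mx M)ᵀ (dn i)) ((mx M)ᵀ (dn j)) := fun i j => by
      simp only [Cfsg.hermForm, Matrix.transpose_apply]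
      rw [hsum]
      simp only [show ∀ k, mx M (up k) (dn i) = 0 from fun k => z2 k i, zero_mul,
        Finset.sum_const_zero, zero_add]
      rfl
    refine ⟨(isUnitary_iff_orthonormal (card_sq hF) _).2 ⟨fun i => ?_, fun i j h => ?_⟩,
      (isUnitary_iff_orthonormal (card_sq hF) _).2 ⟨fun i => ?_, fun i j h => ?_⟩, ?_⟩
    · exact (hA i i).trans (hb.1 _)
    · refine (hA i j).trans ?_; exact hb.2 fun e => h (Fin.ext (by simpa [up] using congrArg Fin.val e))
    · exact (hB i i).trans (hb.1 _)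
    · refine (hB i j).trans ?_; exact hb.2 fun e => h (Fin.ext (by have := congrArg Fin.val e; simp [dn] at this; omega))
    · let eu : Fin 3 ⊕ Fin 3 ≃ Fin 6 := finSumFinEquiv
      have e1 : ∀ a, eu (Sum.inl a) = up a := fun a => Fin.ext rfl
      have e2 : ∀ a, eu (Sum.inr a) = dn a := fun a => Fin.ext (Nat.add_comm _ _)
      have e : (mx M).submatrix eu eu = Matrix.fromBlocks (AA M) 0 0 (BB M) := by
        ext (a | a) (b | b) <;>
          simp only [Matrix.submatrix_apply, e1, e2, Matrix.fromBlocks_apply₁₁,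
            Matrix.fromBlocks_apply₁₂, Matrix.fromBlocks_apply₂₁, Matrix.fromBlocks_apply₂₂]
        · rfl
        · exact z2 a b
        · exact z1 a b
        · rfl
      have hd : ((mx M).submatrix eu eu).det = 1 := by
        rw [Matrix.det_submatrix_equiv_self]
        exact M.1.2
      rwa [e, Matrix.det_fromBlocks_zero₂₁] at hd
  let e3 : F → Fin 3 → F := fun c i => if i = 0 then c else 1
  let BN : B0 F → Matrix (Fin 3) (Fin 3) F := fun g =>
    Matrix.diagonal (e3 (AA (nm g)).det) * BB (nm g)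
  have hBN : ∀ g, IsUnitary 2 (BN g) ∧ (BN g).det = 1 := by
    intro g
    obtain ⟨hA, hB, hd⟩ := hblk g
    have hn := IsUnitary.det_norm (card_sq hF) hA
    refine ⟨(isUnitary_diagonal (card_sq hF) fun i => ?_).mul hB, ?_⟩
    · simp only [e3]
      split_ifs
      · exact hn
      · exact one_pow _
    · rw [Matrix.det_mul, Matrix.det_diagonal, Fin.prod_univ_three]
      simp only [e3, if_pos, if_neg (show (1 : Fin 3) ≠ 0 by decide),
        if_neg (show (2 : Fin 3) ≠ 0 by decide), mul_one]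
      exact hd
  let f : B0 F → Bool × Cfsg.GU 3 F 2 × Cfsg.SU 3 F 2 := fun g =>
    (nb g, guOfUnitary (card_sq hF) _ (hblk g).1, suOfUnitary (BN g) (hBN g).1 (hBN g).2)
  have hinj : Function.Injective f := by
    intro a b e
    simp only [f, Prod.mk.injEq] at e
    obtain ⟨e1, eA, eB⟩ := e
    have hA : AA (nm a) = AA (nm b) :=
      congrArg (fun t : Cfsg.GU 3 F 2 => ((t : Matrix.GeneralLinearGroup (Fin 3) F) : Matrix (Fin 3) (Fin 3) F)) eA
    have hBn : BN a = BN b :=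
      congrArg (fun t : Cfsg.SU 3 F 2 => ((t : Matrix.SpecialLinearGroup (Fin 3) F) : Matrix (Fin 3) (Fin 3) F)) eB
    have hB : BB (nm a) = BB (nm b) := by
      simp only [BN, ← hA] at hBn
      have hne : ∀ i, e3 (AA (nm a)).det i ≠ 0 := fun i => by
        simp only [e3]
        split_ifs
        · exact left_ne_zero_of_mul_eq_one (hblk a).2.2
        · exact one_ne_zero
      ext i j
      have := congrFun (congrFun hBn i) j
      rw [Matrix.diagonal_mul, Matrix.diagonal_mul] at this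
      exact mul_left_cancel₀ (hne i) this
    have hn : nm (a : S6 F) = nm (b : S6 F) := by
      refine ext_ent fun i j => ?_
      by_cases hi : i.val < 3 <;> by_cases hj : j.val < 3
      · exact congrFun (congrFun hA ⟨i.val, hi⟩) ⟨j.val, hj⟩
      · rw [hnm a a.2 i j (by tauto), hnm b b.2 i j (by tauto)]
      · rw [hnm a a.2 i j (by tauto), hnm b b.2 i j (by tauto)]
      · have h := congrFun (congrFun hB ⟨i.val - 3, by omega⟩) ⟨j.val - 3, by omega⟩
        have ei : dn ⟨i.val - 3, by omega⟩ = i := Fin.ext (by simp [dn]; omega)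
        have ej : dn ⟨j.val - 3, by omega⟩ = j := Fin.ext (by simp [dn]; omega)
        simpa only [BB, Matrix.of_apply, ei, ej] using h
    simp only [nm, e1] at hn
    split_ifs at hn
    · exact Subtype.ext hn
    · exact Subtype.ext (mul_right_cancel hn)
  haveI : Finite (Cfsg.GU 3 F 2) :=
    Finite.of_injective (fun x => ((x : Matrix.GeneralLinearGroup (Fin 3) F) : Matrix (Fin 3) (Fin 3) F))
      fun _ _ h => Subtype.ext (Units.ext h)
  haveI : Finite (Cfsg.SU 3 F 2) :=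
    Finite.of_injective (fun x => x.1.1) fun _ _ h => Subtype.ext (Subtype.ext h)
  refine (Nat.card_le_card_of_injective f hinj).trans ?_
  have hS := card_SU (card_sq hF) 3 (by norm_num)
  have hG := card_GU (card_sq hF) 3
  norm_num [Finset.prod_range_succ, Nat.even_iff, -Nat.card_eq_fintype_card] at hS hG
  rw [Nat.card_prod, Nat.card_prod, hG, show Nat.card Bool = 2 by simp]
  omega

end Cfsg.Agent.SUSixUFour
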