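import Cfsg.Agent.Lib.SUSixUFour.Checks

/-!
# Checks on the two quaternion blocks
-/

set_option autoImplicit false
set_option maxRecDepth 100000
set_option Elab.async false

namespace Cfsg.Agent.SUSixUFour.Cert

open StabCert

/-- Equality in the model. -/
def eqB (x y : M4) : Bool := decide (x = y)

/-- Equality of matrices. -/
def matB (A B : Matrix (Fin 6) (Fin 6) M4) : Bool :=
  (List.finRange 6).all fun i => (List.finRange 6).all fun j => eqB (A i j) (B i j)

theorem matB_spec {A B : Matrix (Fin 6) (Fin 6) M4} : matB A B = true ↔ A = B := by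
  constructor
  · intro h
    ext1 i j
    exact of_decide_eq_true
      (List.all_eq_true.1 (List.all_eq_true.1 h i (List.mem_finRange i)) j (List.mem_finRange j))
  · rintro rfl
    simp [matB, eqB]

/-- A block of the quaternion group. -/
def qblk (i : ℕ) (r c : ℕ) : M4 := qe 2 1 1 (((qs.getD i []).getD r []).getD c 0)

/-- The first block. -/
def qLm (i : Fin 8) : Matrix (Fin 6) (Fin 6) M4 := Matrix.of fun r c =>
  if r.val < 3 ∧ c.val < 3 then qblk i.val r.val c.val else if r = c then 1 else 0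

/-- The second block. -/
def qRm (i : Fin 8) : Matrix (Fin 6) (Fin 6) M4 := Matrix.of fun r c =>
  if 3 ≤ r.val ∧ 3 ≤ c.val then qblk i.val (r.val - 3) (c.val - 3) else if r = c then 1 else 0

/-- Multiplication. -/
def qmul (i j : Fin 8) : Fin 8 := Fin.ofNat 8 ((qMul.getD i.val []).getD j.val 0)

/-- Conjugation by diag(1,1,w). -/
def qt (i : Fin 8) : Fin 8 := Fin.ofNat 8 (qT.getD i.val 0)

/-- Conjugation by diag(1,1,w²). -/
def qt' (i : Fin 8) : Fin 8 := Fin.ofNat 8 (qT'.getD i.val 0)

/-- A diagonal matrix from codes. -/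
def dgm (l : List ℕ) : Matrix (Fin 6) (Fin 6) M4 := Matrix.of fun r c =>
  if r = c then qe 2 1 1 (l.getD r.val 0) else 0

/-- A permutation matrix from its list of images. -/
def pgm (l : List ℕ) : Matrix (Fin 6) (Fin 6) M4 := Matrix.of fun r c =>
  if r.val = l.getD c.val 0 then 1 else 0

theorem qsu_ok : ((List.finRange 8).all fun i => suOK (qLm i) && suOK (qRm i)) = true := by
  refine List.all_eq_true.2 fun i _ => Bool.and_eq_true_iff.2 ⟨?_, ?_⟩ <;> fin_cases i <;> decide +kernel

theorem qmul_ok : ((List.finRange 8).all fun i => (List.finRange 8).all fun j =>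
    matB (qLm i * qLm j) (qLm (qmul i j)) && matB (qRm i * qRm j) (qRm (qmul i j)) &&
      matB (qLm i * qRm j) (qRm j * qLm i) &&
      (!matB (qLm i) (qRm j) || (decide (i = 0) && decide (j = 0)))) = true := by
  refine List.all_eq_true.2 fun i _ => ?_
  fin_cases i <;> decide +kernel

theorem qone_ok : (matB (qLm 0) 1 && matB (qRm 0) 1) = true := by decide +kernel

theorem qinv_ok : ∀ i : Fin 8, ∃ j : Fin 8, qmul i j = 0 ∧ qmul j i = 0 := by decide +kernel

theorem qcentre_ok : ∀ i : Fin 8, qmul 1 i = qmul i 1 := by decide +kernel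

theorem qmono_ok : ((List.finRange 8).all fun i => (List.finRange 8).all fun j =>
    (decide (i.val < 2) && decide (j.val < 2)) ||
      (List.finRange 6).any fun c =>
        Nat.ble 2 ((List.finRange 6).countP fun r => !eqB ((qLm i * qRm j) r c) 0)) = true := by
  decide +kernel

theorem qswap_ok : (matB (qLm 1) (pgm [1, 0, 2, 3, 4, 5]) && matB (qRm 1) (pgm [0, 1, 2, 4, 3, 5]) &&
    matB (qLm 2 * qRm 6) (m6 7)) = true := by decide +kernel

theorem qdiag_ok : ((List.finRange 8).all fun i =>
    matB (dgm [1, 1, 2, 1, 1, 3] * qLm i) (qLm (qt i) * dgm [1, 1, 2, 1, 1, 3]) &&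
    matB (dgm [1, 1, 2, 1, 1, 3] * qRm i) (qRm (qt' i) * dgm [1, 1, 2, 1, 1, 3]) &&
    matB (dgm [1, 1, 1, 1, 1, 2] * qLm i) (qLm i * dgm [1, 1, 1, 1, 1, 2]) &&
    matB (dgm [1, 1, 1, 1, 1, 2] * qRm i) (qRm (qt i) * dgm [1, 1, 1, 1, 1, 2]) &&
    matB (pgm [4, 3, 5, 0, 1, 2] * qLm i) (qRm i * pgm [4, 3, 5, 0, 1, 2]) &&
    matB (pgm [4, 3, 5, 0, 1, 2] * qRm i) (qLm i * pgm [4, 3, 5, 0, 1, 2])) = true := by
  decide +kernel

/-- One step of closing a set of pairs, as a list. -/
def qstep (l : List (Fin 8 × Fin 8)) : List (Fin 8 × Fin 8) :=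
  (l ++ l.map (fun q => (qt q.1, qt' q.2)) ++ l.map (fun q => (q.2, q.1)) ++
    l.flatMap fun q => l.map fun r => (qmul q.1 r.1, qmul q.2 r.2)).dedup

/-- The closure of a pair. -/
def qclose (q : Fin 8 × Fin 8) : List (Fin 8 × Fin 8) :=
  let s := [q, (0, 0), (1, 1)].dedup
  let s1 := qstep s
  if Nat.blt 8 s1.length then s1 else
    let s2 := qstep s1
    if Nat.blt 8 s2.length then s2 else qstep s2

theorem qclass_ok : ((List.finRange 8).all fun i => (List.finRange 8).all fun j =>
    (decide (i.val < 2) && decide (j.val < 2)) ||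
      Nat.blt 8 (qclose (i, j)).length ||
      ((qclose (i, j)).any fun q => (List.range 3).any fun k =>
        decide (q = ((2 : Fin 8), qt^[k] 6)))) = true := by decide +kernel

end Cfsg.Agent.SUSixUFour.Cert
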