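import Cfsg.Agent.Lib.SUSixUFour.QBlock

/-!
# The three conjugates under the diagonal automorphism and the local classification

* `dd`, `Kk` : the three subgroups
* `Kk_injective`, `tau_fixes` : they differ and are fixed by the monomial group
* `exists_qk_mem`, `card_X1` : subgroups of order 34992 in the normaliser
-/

set_option autoImplicit false
set_option maxRecDepth 100000

open scoped Matrix

namespace Cfsg.Agent.SUSixUFour

open StabCert Cert Cfsg.Agent.Unitary Cfsg.Agent.U62Cover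

theorem local_ok : suOK (dgm [1, 1, 2, 1, 1, 3]) = true ∧ suOK (pgm [4, 3, 5, 0, 1, 2]) = true := by
  decide +kernel

theorem qclose_q0 : (qclose (2, 6)).Nodup ∧ (qclose (2, 6)).length = 8 := by decide +kernel

theorem qt_six : ∀ d : Fin 3, qt^[d.val] 6 = 6 → d = 0 := by decide +kernel

theorem qt_cube : ∀ i : Fin 8, qt^[3] i = i := by decide +kernel

/-- The partition into two triples. -/
def Part (p : Equiv.Perm (Fin 6)) : Prop :=
  ∀ i j : Fin 6, (i.val < 3 ↔ j.val < 3) → ((p i).val < 3 ↔ (p j).val < 3)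

/-- The even permutations respecting the triples. -/
def G36 : Subgroup (Equiv.Perm (Fin 6)) where
  carrier := {p | Equiv.Perm.sign p = 1 ∧ Part p}
  one_mem' := ⟨map_one _, fun _ _ h => h⟩
  mul_mem' := fun {a b} ha hb =>
    ⟨by rw [map_mul, ha.1, hb.1, mul_one], fun i j h => ha.2 _ _ (hb.2 i j h)⟩
  inv_mem' := fun {a} ha => by
    refine ⟨by rw [map_inv, ha.1, inv_one], ?_⟩
    obtain ⟨n, hn⟩ : ∃ n : ℕ, a⁻¹ = a ^ n := by
      refine ⟨orderOf a - 1, ?_⟩
      rw [inv_eq_iff_mul_eq_one, ← pow_succ', Nat.sub_add_cancel (orderOf_pos a), pow_orderOf_eq_one]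
    rw [hn]
    clear hn
    induction n with
    | zero => exact fun _ _ h => h
    | succ n ih =>
      rw [pow_succ]
      exact fun i j h => ih _ _ (ha.2 i j h)

/-- The third generator. -/
def pS : Equiv.Perm (Fin 6) := sw * Equiv.swap 0 1

/-- The 36 elements. -/
def g36 (n : ℕ) : Equiv.Perm (Fin 6) := cA ^ (n / 12) * cB ^ (n / 4 % 3) * pS ^ (n % 4)

theorem g36_ok : ((List.range 36).all fun n => Equiv.Perm.sign (g36 n) == 1 &&
    (List.finRange 6).all fun i => (List.finRange 6).all fun j =>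
      !(decide (i.val < 3) == decide (j.val < 3)) ||
        (decide ((g36 n i).val < 3) == decide ((g36 n j).val < 3))) = true ∧
    distinctFrom ((List.range 36).map fun n => pcode (g36 n)) 0 = true ∧
    (∀ j : Fin 6, ([4, 3, 5, 0, 1, 2] : List ℕ).getD j.val 0 = (pS j).val) := by
  decide +kernel

theorem g36_mem {n : ℕ} (hn : n < 36) : g36 n ∈ G36 := by
  have h := List.all_eq_true.1 g36_ok.1 n (List.mem_range.2 hn)
  simp only [Bool.and_eq_true, beq_iff_eq, List.all_eq_true, Bool.or_eq_true, Bool.not_eq_true'] at h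
  refine ⟨h.1, fun i j hij => ?_⟩
  have h2 := h.2 i (List.mem_finRange i) j (List.mem_finRange j)
  rcases h2 with h2 | h2
  · simp [hij] at h2
  · simpa using h2

theorem card_G36 : 36 ≤ Nat.card G36 := by
  have hinj : Function.Injective (fun n : Fin 36 => (⟨_, g36_mem n.isLt⟩ : G36)) := by
    intro a b e
    exact Fin.ext ((List.inj_on_of_nodup_map (distinctFrom_spec _ _ g36_ok.2.1).1)
      (List.mem_range.2 a.isLt) (List.mem_range.2 b.isLt) (congrArg (fun t : G36 => pcode t.1) e))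
  simpa using Nat.card_le_card_of_injective _ hinj

variable {F : Type} [Field F] [Fintype F] (hF : Fintype.card F = 4)

include hF in
/-- Conjugation by the diagonal element with last entry `c`. -/
noncomputable def dia (c : Fˣ) (x : S6 F) : S6 F :=
  suOfUnitary (Matrix.diagonal (Function.update 1 5 (c : F)) * mx x *
      Matrix.diagonal (Function.update 1 5 ((c⁻¹ : Fˣ) : F)))
    (((isUnitary_diagonal (card_sq hF) fun i => by
        rw [Function.update_apply]; split_ifs <;> simp [U62Cover.pow_three hF]).mul x.2).mul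
      (isUnitary_diagonal (card_sq hF) fun i => by
        rw [Function.update_apply]; split_ifs <;> simp [U62Cover.pow_three hF]))
    (by
      rw [Matrix.det_mul, Matrix.det_mul, Matrix.det_diagonal, Matrix.det_diagonal,
        Finset.prod_update_of_mem (Finset.mem_univ _), Finset.prod_update_of_mem (Finset.mem_univ _)]
      have : (mx x).det = 1 := x.1.2
      simp [this])

theorem ent_dia (c : Fˣ) (x : S6 F) (i j : Fin 6) : ent (dia hF c x) i j =
    Function.update (1 : Fin 6 → F) 5 (c : F) i * ent x i j *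
      Function.update (1 : Fin 6 → F) 5 ((c⁻¹ : Fˣ) : F) j := by
  show ((Matrix.diagonal (Function.update (1 : Fin 6 → F) 5 (c : F)) : Matrix (Fin 6) (Fin 6) F) * mx x *
    Matrix.diagonal (Function.update (1 : Fin 6 → F) 5 ((c⁻¹ : Fˣ) : F))) i j = _
  rw [Matrix.mul_diagonal, Matrix.diagonal_mul]
  rfl

theorem dia_one (x : S6 F) : dia hF 1 x = x := ext_ent fun i j => by
  rw [ent_dia]
  simp [Function.update_apply]

theorem dia_dia (a b : Fˣ) (x : S6 F) : dia hF a (dia hF b x) = dia hF (a * b) x :=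
  ext_ent fun i j => by
    rw [ent_dia, ent_dia, ent_dia]
    simp only [Function.update_apply, Pi.one_apply, mul_inv_rev, Units.val_mul]
    split_ifs <;> ring

theorem dia_mul (c : Fˣ) (x y : S6 F) : dia hF c (x * y) = dia hF c x * dia hF c y :=
  ext_ent fun i j => by
    rw [ent_dia, ent_mul, ent_mul, Finset.mul_sum, Finset.sum_mul]
    refine Finset.sum_congr rfl fun k _ => ?_
    have hk : Function.update (1 : Fin 6 → F) 5 ((c⁻¹ : Fˣ) : F) k *
        Function.update (1 : Fin 6 → F) 5 (c : F) k = 1 := by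
      simp only [Function.update_apply, Pi.one_apply]
      split_ifs <;> simp
    rw [ent_dia, ent_dia]
    linear_combination (-Function.update (1 : Fin 6 → F) 5 (c : F) i * ent x i k * ent y k j *
      Function.update (1 : Fin 6 → F) 5 ((c⁻¹ : Fˣ) : F) j) * hk

/-- The automorphism. -/
noncomputable def diaEquiv (c : Fˣ) : S6 F ≃* S6 F where
  toFun := dia hF c
  invFun := dia hF c⁻¹
  left_inv x := by rw [dia_dia, inv_mul_cancel, dia_one]
  right_inv x := by rw [dia_dia, mul_inv_cancel, dia_one]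
  map_mul' := dia_mul hF c

theorem dia_mem_lift (c : Fˣ) {P : Subgroup (Equiv.Perm (Fin 6))} {x : S6 F} (hx : x ∈ lift P) :
    dia hF c x ∈ lift P := by
  obtain ⟨p, hp, h⟩ := mem_lift.1 hx
  exact mem_lift.2 ⟨p, hp, fun i j hij => by rw [ent_dia, h i j hij, mul_zero, zero_mul]⟩

theorem map_dia_lift (c : Fˣ) (P : Subgroup (Equiv.Perm (Fin 6))) :
    (lift (F := F) P).map (diaEquiv hF c).toMonoidHom = lift P := by
  refine le_antisymm ?_ fun x hx => ⟨dia hF c⁻¹ x, dia_mem_lift hF _ hx, (diaEquiv hF c).right_inv x⟩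
  rintro _ ⟨x, hx, rfl⟩
  exact dia_mem_lift hF c hx

variable (φ : M4 →+* F) (hφ : ∀ z, φ (star z) = φ z ^ 2)

/-- The primitive cube root. -/
noncomputable def wu : Fˣ := Units.mk0 (φ (qe 2 1 1 2)) fun e =>
  absurd (phi_injective φ (e.trans (map_zero φ).symm)) (by decide +kernel)

theorem wu_cube : (wu φ) ^ 3 = 1 := by
  refine Units.ext ?_
  show φ (qe 2 1 1 2) ^ 3 = 1
  rw [← map_pow, show qe 2 1 1 2 ^ 3 = (1 : M4) by decide +kernel, map_one]

/-- The diagonal automorphisms. -/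
noncomputable def dd (k : ℕ) : S6 F ≃* S6 F := diaEquiv hF (wu φ ^ k)

theorem dgm_map (c : ℕ) : (dgm [1, 1, 1, 1, 1, c]).map φ =
    Matrix.diagonal (Function.update (1 : Fin 6 → F) 5 (φ (qe 2 1 1 c))) := by
  ext i j
  rw [Matrix.map_apply, dgm, Matrix.of_apply, Matrix.diagonal_apply, apply_ite φ, map_zero]
  refine if_congr Iff.rfl ?_ rfl
  have h1 : φ (qe 2 1 1 1) = 1 := by rw [show qe 2 1 1 1 = (1 : M4) by decide +kernel, map_one]
  fin_cases i <;> simp [Function.update_apply, h1]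

theorem dia_qe2 (i j : Fin 8) :
    dia hF (wu φ) (qe2 hF φ hφ (i, j)) = qe2 hF φ hφ (i, qt j) := by
  have hc := List.all_eq_true.1 qdiag_ok
  simp only [Bool.and_eq_true, matB_spec] at hc
  obtain ⟨⟨⟨⟨⟨-, -⟩, hL⟩, -⟩, -⟩, -⟩ := hc i (List.mem_finRange i)
  obtain ⟨⟨⟨⟨⟨-, -⟩, -⟩, hR⟩, -⟩, -⟩ := hc j (List.mem_finRange j)
  refine mx_ext ?_
  show Matrix.diagonal _ * mx (qe2 hF φ hφ (i, j)) * Matrix.diagonal _ = _
  rw [qe2, qe2, mx_mul, mx_mul, mx_qL, mx_qR, mx_qR, show ((wu φ : Fˣ) : F) = φ (qe 2 1 1 2) from rfl,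
    ← dgm_map φ 2]
  rw [← Matrix.mul_assoc ((dgm _).map φ), ← Matrix.map_mul, hL, Matrix.map_mul,
    Matrix.mul_assoc ((qLm i).map φ), ← Matrix.map_mul, hR, Matrix.map_mul]
  simp only [Matrix.mul_assoc]
  have : (dgm [1, 1, 1, 1, 1, 2]).map φ *
      Matrix.diagonal (Function.update (1 : Fin 6 → F) 5 (((wu φ)⁻¹ : Fˣ) : F)) = 1 := by
    rw [dgm_map, Matrix.diagonal_mul_diagonal, ← Matrix.diagonal_one]
    refine congrArg Matrix.diagonal (funext fun a => ?_)
    simp only [Function.update_apply, Pi.one_apply]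
    split_ifs
    · exact Units.mul_inv (wu φ)
    · exact one_mul 1
  rw [this, Matrix.mul_one]

theorem dd_qe2 (k : ℕ) (i j : Fin 8) :
    dd hF φ k (qe2 hF φ hφ (i, j)) = qe2 hF φ hφ (i, qt^[k] j) := by
  induction k generalizing j with
  | zero =>
    show dia hF (wu φ ^ 0) _ = _
    rw [pow_zero, dia_one]
    rfl
  | succ k ih =>
    show dia hF (wu φ ^ (k + 1)) _ = _
    rw [pow_succ, ← dia_dia, dia_qe2 hF φ hφ, Function.iterate_succ_apply]
    exact ih (qt j)

/-- The three subgroups. -/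
noncomputable def Kk (k : ℕ) : Subgroup (S6 F) := (K1 hF φ hφ).map (dd hF φ k).toMonoidHom

variable {F9 : Type} [Field F9] [Fintype F9] (hF9 : Fintype.card F9 = 3 ^ 2) (ψ : M9 →+* F9)
  (hψ : ∀ z, ψ (star z) = ψ z ^ 3)
include hF9 hψ

theorem card_Kk (k : ℕ) : Nat.card (Kk hF φ hφ k) = 9797760 :=
  (Subgroup.card_map_of_injective (dd hF φ k).injective).trans (exists_hom_PSU hF φ hφ hF9 ψ hψ).1

theorem Mv_le_Kk (k : ℕ) : Mv F ≤ Kk hF φ hφ k := by
  rw [Mv, ← map_dia_lift hF (wu φ ^ k)]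
  exact Subgroup.map_mono (Mv_le_K1 hF φ hφ hF9 ψ hψ)

theorem Kk_eq_sup (k : ℕ) :
    Mv F ⊔ Subgroup.zpowers (qe2 hF φ hφ (2, qt^[k] 6)) = Kk hF φ hφ k := by
  rw [Kk, ← K1_eq_sup hF φ hφ hF9 ψ hψ, Subgroup.map_sup, ← (qswap hF φ hφ).2.2, MonoidHom.map_zpowers]
  show _ = (lift _).map (diaEquiv hF _).toMonoidHom ⊔ Subgroup.zpowers (dd hF φ k (qe2 hF φ hφ (2, 6)))
  rw [map_dia_lift, dd_qe2]
  rfl

omit hF9 hψ in
theorem qR_col (c : Fin 8) (i : Fin 6) (hi : i ≠ 0) : ent (qe2 hF φ hφ (0, c)) i 0 = 0 := by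
  rw [qe2, (qL_zero hF φ hφ).1, one_mul, qR, elOf_ent hF φ hφ (qLm_su c).2, qRm, Matrix.of_apply,
    if_neg (fun h => absurd h.2 (by decide)), if_neg hi, map_zero]

/-- The second block meets the subgroup trivially. -/
theorem qR_mem_K1 {c : Fin 8} (h : qe2 hF φ hφ (0, c) ∈ K1 hF φ hφ) : c = 0 := by
  have hm := mon_of_col hF φ hφ h (i0 := 0) (qR_col hF φ hφ c)
  have hv : qe2 hF φ hφ (0, c) ∈ Mv F := by
    rw [← K1_inf_Mn hF φ hφ hF9 ψ hψ]
    exact ⟨h, hm⟩
  rcases QQ_inf_Mv hF φ hφ hv with e | e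
  · exact congrArg Prod.snd e
  · exact absurd (show (0 : Fin 8) = 1 from congrArg Prod.fst e) (by decide)

theorem Kk_injective {a b : ℕ} (ha : a < 3) (hb : b < 3) (h : Kk hF φ hφ a = Kk hF φ hφ b) : a = b := by
  have hm : qe2 hF φ hφ (2, qt^[b] 6) ∈ Kk hF φ hφ a := by
    rw [h, ← Kk_eq_sup hF φ hφ hF9 ψ hψ b]
    exact Subgroup.mem_sup_right (Subgroup.mem_zpowers _)
  obtain ⟨x, hx, e⟩ := Subgroup.mem_map.1 hm
  have e3 : dd hF φ (3 - a) (dd hF φ a x) = x := by
    show dia hF _ (dia hF _ x) = x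
    rw [dia_dia, ← pow_add, Nat.sub_add_cancel ha.le, wu_cube, dia_one]
  have e4 : x = qe2 hF φ hφ (2, qt^[(3 - a + b) % 3] 6) := by
    rw [← e3, show dd hF φ a x = _ from e, dd_qe2, ← Function.iterate_add_apply]
    congr 2
    conv_lhs => rw [← Nat.mod_add_div (3 - a + b) 3, Function.iterate_add_apply, Function.iterate_mul]
    rw [show (qt^[3] : Fin 8 → Fin 8) = id from funext qt_cube, Function.iterate_id]
    rfl
  obtain ⟨u, hu1, hu2⟩ := qinv_ok 2
  obtain ⟨v, hv1, hv2⟩ := qinv_ok 6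
  have hq0 : qe2 hF φ hφ (u, v) ∈ K1 hF φ hφ := by
    have h0 : qe2 hF φ hφ (2, 6) ∈ K1 hF φ hφ := by
      rw [(qswap hF φ hφ).2.2]; exact g6el_mem hF φ hφ (by norm_num)
    have : qe2 hF φ hφ (u, v) = (qe2 hF φ hφ (2, 6))⁻¹ :=
      eq_inv_of_mul_eq_one_left (by rw [qe2_mul, hu2, hv2, qe2_one])
    rw [this]; exact inv_mem h0
  have hprod := mul_mem hq0 (e4 ▸ hx)
  rw [qe2_mul, hu2] at hprod
  have hc := qR_mem_K1 hF φ hφ hF9 ψ hψ hprod
  have hcanc : ∀ v y : Fin 8, qmul v 6 = 0 → qmul v y = 0 → y = 6 := by decide +kernel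
  have hy := hcanc v _ hv2 hc
  have hd := qt_six ⟨(3 - a + b) % 3, Nat.mod_lt _ (by norm_num)⟩ hy
  have : (3 - a + b) % 3 = 0 := congrArg Fin.val hd
  omega

/-- Monomial elements fix the three subgroups. -/
theorem mon_fixes {m : S6 F} (hm : m ∈ Mn F) (k : ℕ) :
    (Kk hF φ hφ k).map (MulAut.conj m).toMonoidHom = Kk hF φ hφ k := by
  haveI := finite_S6 (F := F)
  refine Subgroup.eq_of_le_of_card_ge ?_ (Subgroup.card_map_of_injective (MulAut.conj m).injective).ge
  have htau : ∀ j, pEl hF (Equiv.swap 0 1) * qe2 hF φ hφ (2, j) * (pEl hF (Equiv.swap 0 1))⁻¹ =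
      qe2 hF φ hφ (2, j) := by
    intro j
    rw [mul_inv_eq_iff_eq_mul, ← (qswap hF φ hφ).1]
    have e : qL hF φ hφ 1 = qe2 hF φ hφ (1, 0) := by rw [qe2, (qL_zero hF φ hφ).2, mul_one]
    have hz : ∀ x : Fin 8, qmul x 0 = x ∧ qmul 0 x = x := by decide +kernel
    rw [e, qe2_mul, qe2_mul, qcentre_ok 2, (hz _).1, (hz _).2]
  have main : ∀ g ∈ Mn F, ∀ y ∈ Kk hF φ hφ k, g * y * g⁻¹ ∈ Kk hF φ hφ k := by
    intro g hg y hy
    obtain ⟨p, hp⟩ := hg
    have hT : ∀ y ∈ Kk hF φ hφ k,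
        pEl hF (Equiv.swap 0 1) * y * (pEl hF (Equiv.swap 0 1))⁻¹ ∈ Kk hF φ hφ k := by
      intro y hy
      rw [← Kk_eq_sup hF φ hφ hF9 ψ hψ] at hy ⊢
      have hle : Mv F ⊔ Subgroup.zpowers (qe2 hF φ hφ (2, qt^[k] 6)) ≤
          (Mv F ⊔ Subgroup.zpowers (qe2 hF φ hφ (2, qt^[k] 6))).comap
            (MulAut.conj (pEl hF (Equiv.swap 0 1))).toMonoidHom := by
        refine sup_le (fun m hm => Subgroup.mem_sup_left (Mv_normal ⟨_, mon_pEl hF _⟩ hm))
          (Subgroup.zpowers_le.2 (Subgroup.mem_sup_right ?_))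
        show pEl hF (Equiv.swap 0 1) * _ * _ ∈ _
        rw [htau]
        exact Subgroup.mem_zpowers _
      exact hle hy
    rcases Int.units_eq_one_or (Equiv.Perm.sign p) with hs | hs
    · have hgK := Mv_le_Kk hF φ hφ hF9 ψ hψ k (mem_lift.2 ⟨p, hs, hp⟩)
      exact mul_mem (mul_mem hgK hy) (inv_mem hgK)
    · have hg' : g * (pEl hF (Equiv.swap 0 1))⁻¹ ∈ Kk hF φ hφ k := by
        refine Mv_le_Kk hF φ hφ hF9 ψ hψ k (mem_lift.2 ⟨p * (Equiv.swap 0 1)⁻¹, ?_, ?_⟩)
        · rw [Equiv.Perm.mem_alternatingGroup, map_mul, map_inv, hs,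
            Equiv.Perm.sign_swap (by decide)]
          simp
        · have hi : (pEl hF (Equiv.swap (0 : Fin 6) 1))⁻¹ = pEl hF (Equiv.swap (0 : Fin 6) 1)⁻¹ := by
            refine inv_eq_of_mul_eq_one_right (ext_ent fun i j => ?_)
            rw [ent_mul_mon (mon_pEl hF _), ent_pEl, ent_pEl, if_pos rfl, mul_one, ent_one]
            simp
          rw [hi]
          exact mon_mul hp (mon_pEl hF _)
      have := mul_mem (mul_mem hg' (hT y hy)) (inv_mem hg')
      convert this using 1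
      group
  rintro _ ⟨y, hy, rfl⟩
  exact main m hm y hy

end Cfsg.Agent.SUSixUFour
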